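import Cfsg.Agent.Lib.Spor.Suz.G2Four

/-!
The permutation group of degree 416 of type G2 over four elements, as generated by eight tabulated
permutations, and words in coded permutations.
-/

set_option autoImplicit false

namespace CfsgLib.Spor.SuzRank3

open CfsgLib.G2J2 Cfsg.Lie

/-- the group generated by the eight tabulated permutations -/
def G0 : Subgroup (Equiv.Perm (Fin 416)) :=
  Subgroup.closure {σ | ∃ g < 8, ∀ i : Fin 416, (σ i).val = sImg g i.val}

theorem range_setHom (K : Type*) [Field K] [Fintype K] [Four K] :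
    (setHom (F := K)).range = G0 := by
  rw [MonoidHom.range_eq_map, ← gen_top, MonoidHom.map_closure, G0]
  congr 1
  ext σ
  constructor
  · rintro ⟨_, ⟨g, rfl⟩, rfl⟩
    exact ⟨g.val, g.isLt, fun i => setHom_gen g i⟩
  · rintro ⟨g, hg, h⟩
    exact ⟨_, ⟨⟨g, hg⟩, rfl⟩, Equiv.ext fun i => Fin.ext (by rw [setHom_gen, h])⟩

theorem card_G0 : Nat.card G0 = 251596800 := by
  obtain ⟨K, _, _, hK, -⟩ := Suz.G2Four.exists_equiv
  obtain ⟨_⟩ := exists_four hK
  rw [← range_setHom K, ← Nat.card_congr (MonoidHom.ofInjective Suz.G2Four.setHom_injective).toEquiv,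
    card_group K]

/-- image of a point under a coded product of permutations, first code outermost -/
def ev : List ℕ → ℕ → ℕ
  | [], i => i
  | c :: l, i => fld 9 c (ev l i)

/-- a permutation has a code -/
def Rep (σ : Equiv.Perm (Fin 416)) (c : ℕ) : Prop := ∀ i : Fin 416, (σ i).val = fld 9 c i.val

/-- a permutation is the product of coded permutations -/
def RepL (σ : Equiv.Perm (Fin 416)) (l : List ℕ) : Prop := ∀ i : Fin 416, (σ i).val = ev l i.val

/-- a code belongs to the group -/
def Good (c : ℕ) : Prop := ∃ σ ∈ G0, Rep σ c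

theorem RepL.nil : RepL 1 [] := fun _ => rfl

theorem RepL.cons {σ τ : Equiv.Perm (Fin 416)} {c : ℕ} {l : List ℕ} (h : Rep σ c) (h' : RepL τ l) :
    RepL (σ * τ) (c :: l) := fun i => by
  rw [Equiv.Perm.mul_apply, h, h' i]; rfl

theorem ev_append : ∀ (l l' : List ℕ) (i : ℕ), ev (l ++ l') i = ev l (ev l' i)
  | [], _, _ => rfl
  | c :: l, l', i => by rw [List.cons_append, ev, ev, ev_append l l']

theorem RepL.append {σ τ : Equiv.Perm (Fin 416)} {l l' : List ℕ} (h : RepL σ l) (h' : RepL τ l') :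
    RepL (σ * τ) (l ++ l') := fun i => by
  rw [Equiv.Perm.mul_apply, h, h' i, ev_append]

theorem RepL.unique {σ τ : Equiv.Perm (Fin 416)} {l : List ℕ} (h : RepL σ l) (h' : RepL τ l) : σ = τ :=
  Equiv.ext fun i => Fin.ext ((h i).trans (h' i).symm)

theorem exists_repL : ∀ (l : List ℕ), (∀ c ∈ l, Good c) → ∃ σ ∈ G0, RepL σ l
  | [], _ => ⟨1, one_mem _, RepL.nil⟩
  | c :: l, h => by
    obtain ⟨σ, hσ, hc⟩ := h c List.mem_cons_self
    obtain ⟨τ, hτ, hl⟩ := exists_repL l fun d hd => h d (List.mem_cons_of_mem _ hd)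
    exact ⟨σ * τ, mul_mem hσ hτ, RepL.cons hc hl⟩

/-- the entry in a place of a list of blocks of 32 -/
def entry {α : Type} (d : α) (T : List (List α)) (p : ℕ) : α := (T.getD (p / 32) []).getD (p % 32) d

/-- a straight line program: every later code is the product of two earlier ones -/
def rowOK (T : List (List ℕ)) (R : List (List (ℕ × ℕ))) (p : ℕ) : Bool :=
  let r := entry (p, p) R p
  Nat.blt r.1 p && Nat.blt r.2 p &&
    allB 416 fun i => Nat.beq (fld 9 (entry 0 T p) i) (fld 9 (entry 0 T r.1) (fld 9 (entry 0 T r.2) i))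

/-- the code of the identity and of the generators -/
def seedOK (T : List (List ℕ)) : Bool :=
  allB 416 (fun i => Nat.beq (fld 9 (entry 0 T 0) i) i) &&
    allB 8 fun g => allB 416 fun i => Nat.beq (fld 9 (entry 0 T (g + 1)) i) (sImg g i)

theorem good_of_checks (T : List (List ℕ)) (R : List (List (ℕ × ℕ))) (N : ℕ) (h0 : seedOK T = true)
    (h : ∀ p, 9 ≤ p → p < N → rowOK T R p = true) : ∀ p < N, Good (entry 0 T p) := by
  intro p
  induction p using Nat.strong_induction_on with
  | _ p ih =>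
    intro hp
    simp only [seedOK, Bool.and_eq_true] at h0
    by_cases h9 : 9 ≤ p
    · have hr := h p h9 hp
      simp only [rowOK, Bool.and_eq_true, Nat.blt_eq] at hr
      obtain ⟨⟨h1, h2⟩, h3⟩ := hr
      obtain ⟨σ, hσ, e⟩ := ih _ h1 (h1.trans hp)
      obtain ⟨τ, hτ, e'⟩ := ih _ h2 (h2.trans hp)
      exact ⟨σ * τ, mul_mem hσ hτ, fun i => by
        rw [Equiv.Perm.mul_apply, e, e' i]
        exact (Nat.eq_of_beq_eq_true (of_allB h3 i.val i.isLt)).symm⟩
    · rcases Nat.eq_zero_or_pos p with rfl | hpos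
      · exact ⟨1, one_mem _, fun i => (Nat.eq_of_beq_eq_true (of_allB h0.1 i.val i.isLt)).symm⟩
      · obtain ⟨g, rfl⟩ : ∃ g, p = g + 1 := ⟨p - 1, by omega⟩
        have hg : g < 8 := by omega
        obtain ⟨K, _, _, hK, -⟩ := Suz.G2Four.exists_equiv
        obtain ⟨_⟩ := exists_four hK
        refine ⟨setHom (genG (F := K) ⟨g, hg⟩), ?_, fun i => ?_⟩
        · rw [← range_setHom K]; exact ⟨_, rfl⟩
        · rw [setHom_gen]
          exact (Nat.eq_of_beq_eq_true (of_allB (of_allB h0.2 g hg) i.val i.isLt)).symm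

end CfsgLib.Spor.SuzRank3
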