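import Cfsg.Agent.Lib.Spor.SuzRank3.Search
import Cfsg.Agent.Lib.Spor.SuzRank3.Rows
import Cfsg.Agent.Lib.Spor.SuzRank3.SubData

/-!
Definitions of the tests on the searches in the group of degree 416.
-/

set_option autoImplicit false

namespace CfsgLib.Spor.SuzRank3

open CfsgLib.G2J2

/-- the code in a place -/
def cd (p : ℕ) : ℕ := entry 0 Data.tab p

/-- a chain by codes -/
def levOf (raw : List (ℕ × List (List ℕ) × List (ℕ × ℕ))) : List Lev :=
  raw.map fun L => (L.1, L.2.1.map (fun u => u.map cd), L.2.2)

/-- conditions by codes -/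
def consOf (raw : List (ℕ × List ℕ)) : List (ℕ × List ℕ) :=
  raw.map fun h => (cd h.1, h.2.map cd)

/-- the base used to compare elements -/
def baseN : List ℕ := Data.levN.map Prod.fst

/-- agreement on the base -/
def eqB (l l' : List ℕ) : Bool := baseN.all fun a => Nat.beq (ev l a) (ev l' a)

/-- an iterate -/
def iter (f : ℕ → ℕ) : ℕ → ℕ → ℕ
  | 0, a => a
  | n + 1, a => f (iter f n a)

/-- a power is trivial -/
def powOne (n : ℕ) (l : List ℕ) : Bool := baseN.all fun a => Nat.beq (iter (ev l) n a) a

/-- a word in generators given by lists of codes -/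
def wl (gens : List (List ℕ)) (w : List ℕ) : List ℕ := (w.map fun k => gens.getD k []).flatten

/-- a word moves a point in a cycle of length thirteen -/
def has13 (l : List ℕ) (pt : ℕ) : Bool :=
  Nat.blt pt 416 && Nat.beq (iter (ev l) 13 pt) pt && !Nat.beq (ev l pt) pt

/-- the third generator of a type -/
def yOf (k : ℕ) : ℕ := cd (Data.yI.getD (k - 1) 0)

/-- the verdict on a group with given generators -/
def outOK (maxKind : ℕ) (gens : List (List ℕ)) (o : ℕ × ℕ × List (List ℕ) × ℕ) : Bool :=
  if Nat.beq o.1 0 then has13 (wl gens (o.2.2.1.getD 0 [])) o.2.2.2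
  else Nat.ble o.1 maxKind && Nat.blt o.2.1 Data.size && allB 3 fun j =>
    eqB (cd o.2.1 :: wl gens (o.2.2.1.getD j []))
      [[cd Data.xI, cd Data.tI, yOf o.1].getD j 0, cd o.2.1]

/-- verdicts in step with the leaves -/
def matchOut (maxKind : ℕ) (gens : List (List ℕ)) :
    List (List ℕ) → List (ℕ × ℕ × List (List ℕ) × ℕ) → Bool
  | [], [] => true
  | st :: l, o :: os => outOK maxKind (gens ++ [st]) o && matchOut maxKind gens l os
  | _, _ => false

/-- the leaves kept in the centraliser of the involution -/
def keepC (st : List ℕ) : Bool :=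
  (eqB (st ++ st) [] || eqB (st ++ st) [cd Data.tI]) && !eqB st [] && !eqB st [cd Data.tI]

/-- the leaves kept in the normaliser of a local subgroup -/
def keepP (n : ℕ) (elts : List ℕ) (st : List ℕ) : Bool :=
  !(elts.any fun p => eqB st [cd p]) && powOne n st

/-- generators of a type -/
def gensOf (k : ℕ) : List (List ℕ) := [[cd Data.xI], [cd Data.tI], [yOf k]]

/-- the tests on the element of order seven and the involution -/
def baseFacts : Bool :=
  powOne 7 [cd Data.xI] && !eqB [cd Data.xI] [] && powOne 2 [cd Data.tI] && !eqB [cd Data.tI] [] &&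
    allB 6 (fun j => eqB [cd (Data.xPows.getD j 0)] (List.replicate (j + 1) (cd Data.xI))) &&
    Nat.beq Data.xPows.length 6 && Nat.beq Data.yI.length 4

/-- conjugators in step with the involutions -/
def matchConj : List (List ℕ) → List ℕ → Bool
  | [], [] => true
  | r :: l, g :: gs => Nat.blt g Data.size && eqB (cd g :: r) [cd Data.tI, cd g] &&
      (Data.xPows.any fun p => eqB [cd g, cd Data.xI] [cd p, cd g]) && matchConj l gs
  | _, _ => false

/-- the normaliser of the subgroup of order seven -/
def normFacts : Bool :=
  let L := go (consOf Data.consN) Data.invN baseN (levOf Data.levN) []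
  Nat.ble L.length 126 &&
    matchConj (L.filter fun r => eqB (r ++ r) [] && !eqB r []) Data.conjN

/-- the parts of the search in the centraliser: range of the first choices, range of the verdicts -/
def centParts : List ((ℕ × ℕ) × (ℕ × ℕ)) :=
  [((0, 42), (0, 78)), ((42, 153), (78, 32)), ((195, 14), (110, 32)), ((209, 8), (142, 32)),
   ((217, 37), (174, 32)), ((254, 14), (206, 32)), ((268, 85), (238, 32)), ((353, 63), (270, 32))]

/-- the leaves below some of the first choices -/
def centLeaves (q : ℕ × ℕ) : List (List ℕ) :=
  match levOf Data.levC with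
  | [] => []
  | L :: rest => go (consOf Data.consC) Data.invC ((levOf Data.levC).map Prod.fst)
      ((L.1, (L.2.1.drop q.1).take q.2, L.2.2) :: rest) []

/-- the centraliser of the involution, in one part -/
def centFacts (i : ℕ) : Bool :=
  let q := centParts.getD i ((0, 0), (0, 0))
  matchOut 4 [[cd Data.xI], [cd Data.tI]] ((centLeaves q.1).filter keepC) ((Data.outC.drop q.2.1).take q.2.2)

/-- the parts cover all first choices -/
def centCover : Bool :=
  Nat.ble (((levOf Data.levC).head?.map fun L => L.2.1.length).getD 0) 416 &&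
    allB 416 fun k => centParts.any fun q => Nat.ble q.1.1 k && Nat.blt k (q.1.1 + q.1.2)

/-- a local subgroup: generators by words, elements, closure -/
def localFacts (k : ℕ) (pgen : List ℕ) (words : List (List ℕ)) (elts : List ℕ) (par : List (ℕ × ℕ)) :
    Bool :=
  (allB pgen.length fun i => eqB [cd (pgen.getD i 0)] (wl (gensOf k) (words.getD i []))) &&
    eqB [cd (elts.getD 0 0)] [] && Nat.beq par.length elts.length &&
    (allB elts.length fun j => Nat.beq j 0 ||
      (Nat.blt (par.getD j (0, 0)).1 j && Nat.blt (par.getD j (0, 0)).2 pgen.length &&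
        eqB [cd (elts.getD j 0)]
          [cd (elts.getD (par.getD j (0, 0)).1 0), cd (pgen.getD (par.getD j (0, 0)).2 0)])) &&
    (allB elts.length fun j => allB pgen.length fun i =>
      elts.any fun p => eqB [cd p] [cd (elts.getD j 0), cd (pgen.getD i 0)]) &&
    (allB elts.length fun j => allB j fun i => !eqB [cd (elts.getD i 0)] [cd (elts.getD j 0)])

/-- the invariant counts the elements fixing a point -/
def invFacts (inv : ℕ) (elts : List ℕ) : Bool :=
  allB 416 fun i => Nat.beq (fld 9 inv i) (countB elts.length fun j => Nat.beq (ev [cd (elts.getD j 0)] i) i)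

/-- the extension by an element of the normaliser of a local subgroup -/
def extFacts (k n maxKind : ℕ) (lev : List Lev) (cs : List (ℕ × List ℕ)) (inv : ℕ) (elts : List ℕ)
    (outs : List (ℕ × ℕ × List (List ℕ) × ℕ)) : Bool :=
  matchOut maxKind (gensOf k) ((go cs inv (lev.map Prod.fst) lev []).filter (keepP n elts)) outs

/-- the elements giving a point stabiliser -/
def stabFacts : Bool :=
  allB 4 fun k => eqB [cd (Data.jTgt.getD k 0)] (wl (gensOf 1) (Data.jWords.getD k [])) &&
    baseN.all fun a => Nat.beq (ev [cd Data.jD, cd (Data.jTgt.getD k 0)] a) (hImg k (ev [cd Data.jD] a))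

/-- all entries of a chain are codes -/
def levSmall (raw : List (ℕ × List (List ℕ) × List (ℕ × ℕ))) : Bool :=
  raw.all fun L => L.2.1.all fun u => u.all fun p => Nat.blt p Data.size

/-- all entries of the data are codes -/
def dataSmall : Bool :=
  levSmall Data.levN && levSmall Data.levC && levSmall Data.levA && levSmall Data.levB && levSmall Data.levD &&
    ([Data.xI, Data.tI, Data.jD] ++ Data.xPows ++ Data.yI ++ Data.jTgt ++ Data.pGenA ++ Data.pGenB ++
      Data.pGenD ++ Data.pEltA ++ Data.pEltB ++ Data.pEltD).all fun p => Nat.blt p Data.size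

/-- the chains are chains, with the right product -/
def chainFacts (raw : List (ℕ × List (List ℕ) × List (ℕ × ℕ))) (cs : List (ℕ × List ℕ)) : Bool :=
  chainOK [] (levOf raw) && checksOK (consOf cs) [] (levOf raw) &&
    Nat.beq ((raw.map fun L => L.2.1.length).prod) 251596800 &&
    (consOf cs).all fun hT => (raw.map Prod.fst).all fun a => Nat.blt (fld 9 hT.1 a) 416

end CfsgLib.Spor.SuzRank3
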