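import Cfsg.Agent.Lib.Spor.SuzRank3.ChkCent0
import Cfsg.Agent.Lib.Spor.SuzRank3.ChkCent1
import Cfsg.Agent.Lib.Spor.SuzRank3.ChkCent2
import Cfsg.Agent.Lib.Spor.SuzRank3.ChkCent3

/-!
The search in the centraliser of the involution, all parts together.
-/

set_option autoImplicit false
set_option maxRecDepth 100000

namespace CfsgLib.Spor.SuzRank3

open CfsgLib.G2J2

theorem chainC_ok : chainFacts Data.levC Data.consC = true := by decide +kernel

theorem centCover_ok : centCover = true := by decide +kernel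

theorem cent_ok {i : ℕ} (hi : i < 8) : centFacts i = true := by
  interval_cases i
  exacts [cent_ok0, cent_ok1, cent_ok2, cent_ok3, cent_ok4, cent_ok5, cent_ok6, cent_ok7]

theorem go_mem_part {cs : List (ℕ × List ℕ)} {inv : ℕ} {base : List ℕ} {levs : List Lev} {st : List ℕ}
    (h : st ∈ go cs inv base levs []) (parts : List ((ℕ × ℕ) × (ℕ × ℕ)))
    (hcov : ∀ L rest, levs = L :: rest → ∀ k < L.2.1.length,
      ∃ i < parts.length, (parts.getD i ((0, 0), (0, 0))).1.1 ≤ k ∧
        k < (parts.getD i ((0, 0), (0, 0))).1.1 + (parts.getD i ((0, 0), (0, 0))).1.2) :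
    levs = [] ∨ ∃ L rest, levs = L :: rest ∧ ∃ i < parts.length,
      st ∈ go cs inv base ((L.1, (L.2.1.drop (parts.getD i ((0, 0), (0, 0))).1.1).take
        (parts.getD i ((0, 0), (0, 0))).1.2, L.2.2) :: rest) [] := by
  cases levs with
  | nil => exact Or.inl rfl
  | cons L rest =>
    refine Or.inr ⟨L, rest, rfl, ?_⟩
    simp only [go, List.mem_flatMap] at h ⊢
    obtain ⟨u, hu, hst⟩ := h
    obtain ⟨k, hk, rfl⟩ := List.mem_iff_getElem.1 hu
    obtain ⟨i, hi, h1, h2⟩ := hcov L rest rfl k hk
    refine ⟨i, hi, _, ?_, hst⟩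
    refine List.mem_iff_getElem.2 ⟨k - (parts.getD i ((0, 0), (0, 0))).1.1, ?_, ?_⟩
    · rw [List.length_take, List.length_drop]; omega
    · rw [List.getElem_take, List.getElem_drop]
      congr 1
      omega

theorem cent_leaf {st : List ℕ}
    (h : st ∈ go (consOf Data.consC) Data.invC ((levOf Data.levC).map Prod.fst) (levOf Data.levC) []) :
    ∃ i < 8, st ∈ centLeaves (centParts.getD i ((0, 0), (0, 0))).1 := by
  have hc := centCover_ok
  simp only [centCover, Bool.and_eq_true, Nat.ble_eq] at hc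
  have hcov : ∀ L rest, levOf Data.levC = L :: rest → ∀ k < L.2.1.length,
      ∃ i < centParts.length, (centParts.getD i ((0, 0), (0, 0))).1.1 ≤ k ∧
        k < (centParts.getD i ((0, 0), (0, 0))).1.1 + (centParts.getD i ((0, 0), (0, 0))).1.2 := by
    intro L rest e k hk
    have hlen : L.2.1.length ≤ 416 := by
      have := hc.1
      rw [e] at this
      simpa using this
    have := of_allB hc.2 k (by omega)
    simp only [List.any_eq_true, Bool.and_eq_true, Nat.ble_eq, Nat.blt_eq] at this
    obtain ⟨q, hq, h1, h2⟩ := this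
    obtain ⟨i, hi, rfl⟩ := List.mem_iff_getElem.1 hq
    exact ⟨i, hi, by rw [List.getD_eq_getElem _ _ hi]; exact ⟨h1, h2⟩⟩
  rcases go_mem_part h centParts hcov with e | ⟨L, rest, e, i, hi, hst⟩
  · exact absurd e (by simp [levOf, Data.levC])
  · exact ⟨i, hi, by rw [centLeaves, e]; rw [e] at hst; exact hst⟩

end CfsgLib.Spor.SuzRank3
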