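import Cfsg.Agent.Lib.Spor.SuzRank3.Checks

/-!
Kernel tests on the searches in the group of degree 416.
-/

set_option autoImplicit false
set_option maxRecDepth 100000

namespace CfsgLib.Spor.SuzRank3

open CfsgLib.G2J2

theorem chainA_ok : chainFacts Data.levA Data.consA = true := by decide +kernel

theorem localA_ok : localFacts 2 Data.pGenA Data.pWordA Data.pEltA Data.pParA = true := by decide +kernel

theorem invA_ok : invFacts Data.invA Data.pEltA = true := by decide +kernel

theorem extA_ok : extFacts 2 128 0 (levOf Data.levA) (consOf Data.consA) Data.invA Data.pEltA Data.outA = true := by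
  decide +kernel

theorem chainB_ok : chainFacts Data.levB Data.consB = true := by decide +kernel

theorem localB_ok : localFacts 3 Data.pGenB Data.pWordB Data.pEltB Data.pParB = true := by decide +kernel

theorem extB_ok : extFacts 3 25 0 (levOf Data.levB) (consOf Data.consB) Data.invB Data.pEltB Data.outB = true := by
  decide +kernel

theorem chainD_ok : chainFacts Data.levD Data.consD = true := by decide +kernel

theorem localD_ok : localFacts 4 Data.pGenD Data.pWordD Data.pEltD Data.pParD = true := by decide +kernel

theorem invD_ok : invFacts Data.invD Data.pEltD = true := by decide +kernel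

theorem extD_ok : extFacts 4 128 3 (levOf Data.levD) (consOf Data.consD) Data.invD Data.pEltD Data.outD = true := by
  decide +kernel

theorem stab_ok : stabFacts = true := by decide +kernel

end CfsgLib.Spor.SuzRank3
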