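import Cfsg.Agent.Lib.Spor.SuzRank3.GraphDefs

/-!
Kernel tests on the graph.
-/

set_option autoImplicit false
set_option maxRecDepth 100000

namespace CfsgLib.Spor.SuzRank3

open CfsgLib.G2J2

theorem lineImg_ok4 : lineImgFacts 4 = true := by decide +kernel

theorem lineImg_ok5 : lineImgFacts 5 = true := by decide +kernel

end CfsgLib.Spor.SuzRank3
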