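import Cfsg.Agent.Lib.Spor.SuzRank3.Checks

/-!
Kernel tests on the searches in the group of degree 416.
-/

set_option autoImplicit false
set_option maxRecDepth 100000

namespace CfsgLib.Spor.SuzRank3

open CfsgLib.G2J2

theorem rows2_ok : (allB 679 fun k => rowOK Data.tab Data.rows (1367 + k)) = true := by decide +kernel

end CfsgLib.Spor.SuzRank3
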