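import Cfsg.Agent.Lib.Spor.SuzRank3.Local
import Cfsg.Agent.Lib.Spor.SuzRank3.ChkCent
import Cfsg.Agent.Lib.Spor.SuzRank3.ChkExt
import Cfsg.Agent.Lib.Chev.G2J2.Main

/-!
Every subgroup of order 604800 of the group of degree 416 is a point stabiliser.
-/

set_option autoImplicit false
set_option maxRecDepth 10000

namespace CfsgLib.Spor.SuzRank3

open CfsgLib.G2J2

theorem exists_leaf {raw : List (ℕ × List (List ℕ) × List (ℕ × ℕ))} {cs : List (ℕ × List ℕ)} {inv : ℕ}
    (hc : chainFacts raw cs = true) (hs : levSmall raw = true) {σ : Equiv.Perm (Fin 416)} (hσ : σ ∈ G0)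
    (hf : Fits (consOf cs) inv σ) :
    ∃ st ∈ go (consOf cs) inv ((levOf raw).map Prod.fst) (levOf raw) [], RepL σ st := by
  obtain ⟨h1, h2, h3, -, h5, h6⟩ := chain_facts hc
  exact go_sound (consOf cs) inv _ h5 h6 σ hf (levOf raw) [] h1 h2 (fun a ha => absurd ha List.not_mem_nil)
    [] 1 σ RepL.nil (prods_eq h1 (goodLevs_of_small hs) h3 σ hσ) (one_mul σ).symm

/-- a conjugation condition -/
theorem fits_one {σ h q : Equiv.Perm (Fin 416)} {c d : ℕ} (hc : RepL h [c]) (hd : RepL q [d])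
    (e : σ * h * σ⁻¹ = q) : ∀ i j : Fin 416, fld 9 c i.val = j.val → fld 9 d (σ i).val = (σ j).val := by
  intro i j hij
  have hj : h i = j := Fin.ext ((hc i).trans hij)
  have : q (σ i) = σ j := by
    rw [← e, Equiv.Perm.mul_apply, Equiv.Perm.mul_apply, ← hj]
    simp
  rw [← this]; exact (hd (σ i)).symm

theorem inv_sound {inv : ℕ} {elts : List ℕ} (hi : invFacts inv elts = true) {P : Subgroup (Equiv.Perm (Fin 416))}
    (hcard : Nat.card P = elts.length) (hto : ∀ σ ∈ P, ∃ p ∈ elts, RepL σ [cd p])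
    (hfrom : ∀ p ∈ elts, ∃ σ ∈ P, RepL σ [cd p]) {σ : Equiv.Perm (Fin 416)}
    (hn : ∀ q ∈ P, σ * q * σ⁻¹ ∈ P) (i : Fin 416) : fld 9 inv (σ i).val = fld 9 inv i.val := by
  classical
  choose f hf hfr using fun j : Fin elts.length => hfrom elts[j.val] (List.getElem_mem j.2)
  have hsur : Function.Surjective fun j => (⟨f j, hf j⟩ : P) := by
    intro q
    obtain ⟨p, hp, hq⟩ := hto q.1 q.2
    obtain ⟨j, hj, rfl⟩ := List.mem_iff_getElem.1 hp
    exact ⟨⟨j, hj⟩, Subtype.ext ((hfr ⟨j, hj⟩).unique hq)⟩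
  have hbij : Function.Bijective fun j => (⟨f j, hf j⟩ : P) :=
    (Nat.bijective_iff_surjective_and_card _).2 ⟨hsur, by rw [hcard]; simp⟩
  have hcount : ∀ x : Fin 416, fld 9 inv x.val = Nat.card {q : P // q.1 x = x} := by
    intro x
    rw [Nat.eq_of_beq_eq_true (of_allB hi x.val x.2), countB_eq,
      ← Nat.card_congr ((Equiv.ofBijective _ hbij).subtypeEquiv (p := fun j => f j x = x) fun j => Iff.rfl),
      Nat.card_eq_fintype_card, Fintype.card_subtype, ← Finset.card_map Fin.valEmbedding]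
    refine congrArg Finset.card ?_
    ext n
    simp only [Finset.mem_filter, Finset.mem_range, Finset.mem_map, Fin.valEmbedding_apply, Finset.mem_univ,
      true_and]
    constructor
    · rintro ⟨hn', h⟩
      refine ⟨⟨n, hn'⟩, Fin.ext ?_, rfl⟩
      rw [List.getD_eq_getElem _ _ hn'] at h
      rw [hfr ⟨n, hn'⟩ x]
      exact Nat.eq_of_beq_eq_true h
    · rintro ⟨j, h, rfl⟩
      refine ⟨j.2, ?_⟩
      rw [List.getD_eq_getElem _ _ j.2, ← hfr j x, h]
      exact Nat.beq_refl _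
  rw [hcount, hcount]
  have hPfin : Finite P := inferInstance
  let e : P → P := fun q => ⟨σ * q.1 * σ⁻¹, hn q.1 q.2⟩
  have he : Function.Bijective e := Finite.injective_iff_bijective.1 fun a b h => by
    have := congrArg Subtype.val h
    simp only [e] at this
    exact Subtype.ext (mul_left_cancel (mul_right_cancel this))
  refine (Nat.card_congr ((Equiv.ofBijective e he).subtypeEquiv fun q => ?_)).symm
  show q.1 i = i ↔ (σ * q.1 * σ⁻¹) (σ i) = σ i
  simp [Equiv.Perm.mul_apply]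

/-- extension by an element normalising a local subgroup -/
theorem ext_step {k p a n maxKind : ℕ} [Fact p.Prime] {raw : List (ℕ × List (List ℕ) × List (ℕ × ℕ))}
    {cs : List (ℕ × List ℕ)} {inv : ℕ} {elts : List ℕ} {outs : List (ℕ × ℕ × List (List ℕ) × ℕ)}
    (hch : chainFacts raw cs = true) (hs : levSmall raw = true)
    (hext : extFacts k n maxKind (levOf raw) (consOf cs) inv elts outs = true)
    (hn : p ^ (a + 1) ∣ n) (hdvd : p ^ (a + 1) ∣ 604800) {P : Subgroup (Equiv.Perm (Fin 416))}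
    (hcard : Nat.card P = p ^ a) (hP : ∀ H : Subgroup (Equiv.Perm (Fin 416)), H ≤ G0 → Contains k H → P ≤ H)
    (hel : ∀ q ∈ elts, ∃ σ ∈ P, RepL σ [cd q])
    (hfit : ∀ y ∈ G0, (∀ q ∈ P, y * q * y⁻¹ ∈ P) → (a = 1 → ∀ q ∈ P, y * q = q * y) → Fits (consOf cs) inv y)
    {H : Subgroup (Equiv.Perm (Fin 416))} (hH : H ≤ G0) (hc : Nat.card H = 604800) (hcon : Contains k H) :
    ∃ g ∈ G0, ∃ k', 1 ≤ k' ∧ k' ≤ maxKind ∧ Contains k' (H.map (MulAut.conj g).toMonoidHom) := by
  obtain ⟨y, hy, hyP, -, hnorm, hpow, hcomm⟩ := exists_ext p a H P (hP H hH hcon) hcard (hc ▸ hdvd)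
  obtain ⟨st, hst, hl⟩ := exists_leaf hch hs (hH hy) (hfit y (hH hy) hnorm hcomm)
  have hkeep : keepP n elts st = true := by
    simp only [keepP, Bool.and_eq_true, Bool.not_eq_true', List.any_eq_false]
    refine ⟨fun q hq he => ?_, ?_⟩
    · obtain ⟨σ, hσ, hσl⟩ := hel q hq
      exact hyP (eq_of_eqB (hH hy) (hH (hP H hH hcon hσ)) hl hσl he ▸ hσ)
    · obtain ⟨m, rfl⟩ := hn
      exact (pow_one_iff (hH hy) hl _).2 (by rw [pow_mul, hpow, one_pow])
  obtain ⟨o, ho⟩ := match_sound hext st (List.mem_filter.2 ⟨hst, hkeep⟩)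
  refine out_sound ho hH hc fun l hl' => ?_
  rcases List.mem_append.1 hl' with h | h
  · exact hcon l h
  · exact ⟨y, hy, List.mem_singleton.1 h ▸ hl⟩

theorem stab_of_contains {H : Subgroup (Equiv.Perm (Fin 416))} (hH : H ≤ G0) (hc : Nat.card H = 604800)
    (hcon : Contains 1 H) : IsStab H := by
  obtain ⟨K, _, _, hK, -⟩ := Suz.G2Four.exists_equiv
  obtain ⟨_⟩ := exists_four hK
  obtain ⟨-, hs⟩ := small_facts
  obtain ⟨d, hd, hdl⟩ := exists_pm (hs Data.jD (by simp))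
  set H' := H.map (MulAut.conj d).toMonoidHom with hH'
  have hle : (HH K).map (setHom (F := K)) ≤ H' := by
    rw [show HH K = Subgroup.map (HH K).subtype ⊤ by rw [← MonoidHom.range_eq_map, Subgroup.range_subtype],
      ← hG_top K, MonoidHom.map_closure, MonoidHom.map_closure, Subgroup.closure_le]
    rintro _ ⟨_, ⟨_, ⟨k, rfl⟩, rfl⟩, rfl⟩
    show orbHom K (hG k) ∈ H'
    obtain ⟨t, ht, htl⟩ := exists_pm (small_getD (l := Data.jTgt) (fun p hp => hs p (by simp [hp])) k.val)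
    obtain ⟨w, hw, hwl⟩ := exists_wl H hcon (Data.jWords.getD k.val [])
    have h := of_allB stab_ok k.val k.isLt
    simp only [Bool.and_eq_true, List.all_eq_true] at h
    have e1 : t = w := eq_of_eqB ht (hH hw) htl hwl h.1
    obtain ⟨h1, -, h3, h4, -, -⟩ := chain_facts chainN_ok
    have hmem : orbHom K (hG k) ∈ G0 := by rw [← range_setHom K]; exact ⟨_, rfl⟩
    have e2 : d * t = orbHom K (hG k) * d :=
      eq_of_base h1 (goodLevs_of_small small_facts.1.1) h3 (mul_mem hd ht) (mul_mem hmem hd) fun i hi =>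
        Fin.ext (by
          rw [h4] at hi
          rw [(hdl.append htl) i, Equiv.Perm.mul_apply, orbHom_hG, hdl i]
          exact Nat.eq_of_beq_eq_true (h.2 i.val hi))
    rw [hH', mem_conj, mul_assoc, ← e2, inv_mul_cancel_left, e1]
    exact hw
  have hcard : Nat.card ((HH K).map (setHom (F := K))) = 604800 := by
    rw [← Nat.card_congr ((HH K).equivMapOfInjective _ Suz.G2Four.setHom_injective).toEquiv, card_HH K]
  have heq : (HH K).map (setHom (F := K)) = H' :=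
    Subgroup.eq_of_le_of_card_ge hle (by rw [hcard, hH', card_conj, hc])
  refine isStab_conj hd ⟨zS, fun σ => ?_⟩
  rw [← hH', ← heq]
  constructor
  · rintro ⟨g, hg, rfl⟩
    exact ⟨by rw [← range_setHom K]; exact ⟨g, rfl⟩, mem_stab.1 hg⟩
  · rintro ⟨hσ, hfix⟩
    rw [← range_setHom K] at hσ
    obtain ⟨g, rfl⟩ := hσ
    exact ⟨g, mem_stab.2 hfix, rfl⟩

theorem excluded {k p a n : ℕ} [Fact p.Prime] {raw : List (ℕ × List (List ℕ) × List (ℕ × ℕ))}
    {cs : List (ℕ × List ℕ)} {inv : ℕ} {elts : List ℕ} {outs : List (ℕ × ℕ × List (List ℕ) × ℕ)}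
    (hch : chainFacts raw cs = true) (hs : levSmall raw = true)
    (hext : extFacts k n 0 (levOf raw) (consOf cs) inv elts outs = true)
    (hn : p ^ (a + 1) ∣ n) (hdvd : p ^ (a + 1) ∣ 604800) {P : Subgroup (Equiv.Perm (Fin 416))}
    (hcard : Nat.card P = p ^ a) (hP : ∀ H : Subgroup (Equiv.Perm (Fin 416)), H ≤ G0 → Contains k H → P ≤ H)
    (hel : ∀ q ∈ elts, ∃ σ ∈ P, RepL σ [cd q])
    (hfit : ∀ y ∈ G0, (∀ q ∈ P, y * q * y⁻¹ ∈ P) → (a = 1 → ∀ q ∈ P, y * q = q * y) → Fits (consOf cs) inv y)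
    {H : Subgroup (Equiv.Perm (Fin 416))} (hH : H ≤ G0) (hc : Nat.card H = 604800) : ¬ Contains k H := by
  intro hcon
  obtain ⟨g, -, k', h1, h0, -⟩ := ext_step hch hs hext hn hdvd hcard hP hel hfit hH hc hcon
  omega

theorem no_two {H : Subgroup (Equiv.Perm (Fin 416))} (hH : H ≤ G0) (hc : Nat.card H = 604800) :
    ¬ Contains 2 H := by
  haveI := Fact.mk Nat.prime_two
  obtain ⟨-, hs⟩ := small_facts
  obtain ⟨P, hcard, -, hP, hto, hfrom, hgen⟩ :=
    exists_local localA_ok (fun p hp => hs p (by simp [hp])) (fun p hp => hs p (by simp [hp])) (by decide)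
  refine excluded (p := 2) (a := 6) chainA_ok small_facts.1.2.2.1 extA_ok (by norm_num) (by norm_num)
    (by rw [hcard]; rfl) hP hfrom (fun y hy hn _ => ⟨inv_sound invA_ok hcard hto hfrom hn, ?_⟩) hH hc
  intro hT hhT
  obtain ⟨c, hc', rfl⟩ := List.mem_map.1 hhT
  have hrows : ∀ c ∈ Data.consA, c.1 ∈ Data.pGenA ∧ c.2 = Data.pEltA := by decide
  obtain ⟨h1, h2⟩ := hrows c hc'
  obtain ⟨g, hg, hgl⟩ := hgen _ h1
  obtain ⟨q, hq, hql⟩ := hto _ (hn g hg)
  exact ⟨cd q, List.mem_map.2 ⟨q, h2 ▸ hq, rfl⟩, fits_one hgl hql rfl⟩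

theorem no_three {H : Subgroup (Equiv.Perm (Fin 416))} (hH : H ≤ G0) (hc : Nat.card H = 604800) :
    ¬ Contains 3 H := by
  haveI : Fact (Nat.Prime 5) := ⟨by norm_num⟩
  obtain ⟨-, hs⟩ := small_facts
  obtain ⟨P, hcard, -, hP, hto, hfrom, hgen⟩ :=
    exists_local localB_ok (fun p hp => hs p (by simp [hp])) (fun p hp => hs p (by simp [hp])) (by decide)
  have hzero : Data.invB = 0 := rfl
  refine excluded (p := 5) (a := 1) chainB_ok small_facts.1.2.2.2.1 extB_ok (by norm_num) (by norm_num)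
    (by rw [hcard]; rfl) hP hfrom (fun y hy _ hcomm => ⟨fun i => by rw [hzero]; simp [fld], ?_⟩) hH hc
  intro hT hhT
  obtain ⟨c, hc', rfl⟩ := List.mem_map.1 hhT
  have hrows : ∀ c ∈ Data.consB, c.1 ∈ Data.pGenB ∧ c.2 = [c.1] := by decide
  obtain ⟨h1, h2⟩ := hrows c hc'
  obtain ⟨g, hg, hgl⟩ := hgen _ h1
  refine ⟨cd c.1, List.mem_map.2 ⟨c.1, by rw [h2]; exact List.mem_singleton.2 rfl, rfl⟩, fits_one hgl hgl ?_⟩
  rw [hcomm rfl g hg, mul_inv_cancel_right]

theorem stab_of_four {H : Subgroup (Equiv.Perm (Fin 416))} (hH : H ≤ G0) (hc : Nat.card H = 604800)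
    (hcon : Contains 4 H) : IsStab H := by
  haveI := Fact.mk Nat.prime_two
  obtain ⟨-, hs⟩ := small_facts
  obtain ⟨P, hcard, -, hP, hto, hfrom, hgen⟩ :=
    exists_local localD_ok (fun p hp => hs p (by simp [hp])) (fun p hp => hs p (by simp [hp])) (by decide)
  obtain ⟨g, hg, k', h1, h3, hcon'⟩ := ext_step (p := 2) (a := 4) chainD_ok small_facts.1.2.2.2.2 extD_ok
    (by norm_num) (by norm_num) (by rw [hcard]; rfl) hP hfrom
    (fun y hy hn _ => ⟨inv_sound invD_ok hcard hto hfrom hn, by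
      intro hT hhT
      obtain ⟨c, hc', rfl⟩ := List.mem_map.1 hhT
      have hrows : ∀ c ∈ Data.consD, c.1 ∈ Data.pGenD ∧ c.2 = Data.pEltD := by decide
      obtain ⟨h1, h2⟩ := hrows c hc'
      obtain ⟨g, hg, hgl⟩ := hgen _ h1
      obtain ⟨q, hq, hql⟩ := hto _ (hn g hg)
      exact ⟨cd q, List.mem_map.2 ⟨q, h2 ▸ hq, rfl⟩, fits_one hgl hql rfl⟩⟩) hH hc hcon
  refine isStab_conj hg ?_
  have hH' := conj_le hg hH
  have hc' : Nat.card (H.map (MulAut.conj g).toMonoidHom) = 604800 := by rw [card_conj, hc]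
  interval_cases k'
  exacts [stab_of_contains hH' hc' hcon', absurd hcon' (no_two hH' hc'), absurd hcon' (no_three hH' hc')]

end CfsgLib.Spor.SuzRank3
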