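import Cfsg.Agent.Lib.Spor.SuzRank3.LineOrbits

/-!
A transitive group of degree 1782 with the given point stabiliser and orbit lengths: the orbital relation
of the orbit of length 416 restricted to that orbit.
-/

set_option autoImplicit false
set_option maxRecDepth 10000

namespace CfsgLib.Spor.SuzRank3

open CfsgLib.G2J2 Equiv

theorem inv_app {α : Type*} (f : Perm α) (x : α) : f⁻¹ (f x) = x := f.symm_apply_apply x

theorem app_inv {α : Type*} (f : Perm α) (x : α) : f (f⁻¹ x) = x := f.apply_symm_apply x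

/-- the data: a transitive group, a point, its stabiliser as the group of degree 416, two orbits -/
structure Cfg (Ω : Type*) where
  fin : Fintype Ω
  grp : Subgroup (Perm Ω)
  a : Ω
  b : Ω
  c : Ω
  card_eq : Nat.card Ω = 1782
  trans : ∀ x, ∃ g ∈ grp, g a = x
  H : Subgroup (Perm Ω)
  mem_H : ∀ g, g ∈ H ↔ g ∈ grp ∧ g a = a
  ψ : ↥H ≃* ↥G0
  orb_b : {x | ∃ h ∈ H, h b = x}.ncard = 416
  orb_c : {x | ∃ h ∈ H, h c = x}.ncard = 1365

namespace Cfg

variable {Ω : Type*} (d : Cfg Ω)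

/-- the permutation of the 416 points belonging to an element of the stabiliser -/
abbrev perm (h : ↥d.H) : Perm (Fin 416) := (d.ψ h : Perm (Fin 416))

theorem perm_mul (h k : ↥d.H) : d.perm (h * k) = d.perm h * d.perm k := by
  simp [perm]

theorem perm_inv (h : ↥d.H) : d.perm h⁻¹ = (d.perm h)⁻¹ := by
  simp [perm]

theorem perm_mem (h : ↥d.H) : d.perm h ∈ G0 := (d.ψ h).2

theorem perm_surj {σ : Perm (Fin 416)} (hσ : σ ∈ G0) : ∃ h : ↥d.H, d.perm h = σ :=
  ⟨d.ψ.symm ⟨σ, hσ⟩, by simp [perm]⟩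

theorem H_apply (h : ↥d.H) : (h : Perm Ω) d.a = d.a := ((d.mem_H _).1 h.2).2

theorem H_mem (h : ↥d.H) : (h : Perm Ω) ∈ d.grp := ((d.mem_H _).1 h.2).1

/-- the orbit of the first point -/
def B : Set Ω := {x | ∃ h ∈ d.H, h d.b = x}

/-- the orbit of the second point -/
def C : Set Ω := {x | ∃ h ∈ d.H, h d.c = x}

theorem card_H : Nat.card ↥d.H = 251596800 := by rw [Nat.card_congr d.ψ.toEquiv, card_G0]

theorem relIndex_orbit {α : Type*} (x : α) (K : Subgroup (Perm α)) :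
    (stab (MonoidHom.id (Perm α)) x).relIndex K = {i | ∃ k ∈ K, k x = i}.ncard := by
  rw [relIndex_stab, ← Nat.card_coe_set_eq]
  rfl

theorem exists_point : ∃ i₀ : Fin 416, ∀ h : ↥d.H, (h : Perm Ω) d.b = d.b ↔ d.perm h i₀ = i₀ := by
  set S := (stab (MonoidHom.id (Perm Ω)) d.b).subgroupOf d.H
  have hidx : S.index = 416 := (relIndex_orbit d.b d.H).trans d.orb_b
  have hcard : Nat.card S = 604800 := by
    have h := S.card_mul_index
    rw [hidx, d.card_H] at h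
    omega
  set M := (S.map d.ψ.toMonoidHom).map G0.subtype
  have hM : Nat.card M = 604800 := by
    rw [Subgroup.card_map_of_injective G0.subtype_injective,
      Subgroup.card_map_of_injective (f := d.ψ.toMonoidHom) d.ψ.injective, hcard]
  obtain ⟨i, hi⟩ := isStab_of_card (H := M) (Subgroup.map_subtype_le _) hM
  refine ⟨i, fun h => ?_⟩
  constructor
  · intro e
    exact ((hi _).1 ⟨d.ψ h, ⟨h, e, rfl⟩, rfl⟩).2
  · intro e
    obtain ⟨x, ⟨k, hk, rfl⟩, he⟩ := (hi _).2 ⟨d.perm_mem h, e⟩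
    have : k = h := d.ψ.injective (Subtype.ext he)
    exact this ▸ hk

theorem exists_f : ∃ f : Fin 416 → Ω, Function.Injective f ∧ Set.range f = d.B ∧
    ∀ (h : ↥d.H) k, f (d.perm h k) = (h : Perm Ω) (f k) := by
  obtain ⟨i₀, hi⟩ := d.exists_point
  have hx : ∀ k, ∃ h : ↥d.H, d.perm h i₀ = k := fun k => by
    obtain ⟨σ, hσ, e⟩ := G0_trans i₀ k
    obtain ⟨h, rfl⟩ := d.perm_surj hσ
    exact ⟨h, e⟩
  choose η hη using hx
  have key : ∀ h h' : ↥d.H, (h : Perm Ω) d.b = (h' : Perm Ω) d.b ↔ d.perm h i₀ = d.perm h' i₀ := by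
    intro h h'
    have e := hi (h'⁻¹ * h)
    rw [Subgroup.coe_mul, InvMemClass.coe_inv, Perm.mul_apply, d.perm_mul, d.perm_inv, Perm.mul_apply,
      Perm.inv_eq_iff_eq, Perm.inv_eq_iff_eq] at e
    exact e
  refine ⟨fun k => (η k : Perm Ω) d.b, fun k l e => ?_, Set.ext fun x => ⟨?_, ?_⟩, fun h k => ?_⟩
  · rw [← hη k, ← hη l]; exact (key _ _).1 e
  · rintro ⟨k, rfl⟩; exact ⟨_, (η k).2, rfl⟩
  · rintro ⟨h, hh, rfl⟩
    exact ⟨d.perm ⟨h, hh⟩ i₀, (key _ ⟨h, hh⟩).2 (hη _)⟩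
  · have e := (key (η (d.perm h k)) (h * η k)).2 (by rw [hη, d.perm_mul, Perm.mul_apply, hη])
    rw [Subgroup.coe_mul, Perm.mul_apply] at e
    exact e

/-- the bijection with the orbit -/
noncomputable def f : Fin 416 → Ω := d.exists_f.choose

theorem f_inj : Function.Injective d.f := d.exists_f.choose_spec.1

theorem range_f : Set.range d.f = d.B := d.exists_f.choose_spec.2.1

theorem f_perm (h : ↥d.H) (k : Fin 416) : d.f (d.perm h k) = (h : Perm Ω) (d.f k) :=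
  d.exists_f.choose_spec.2.2 h k

theorem f_mem (k : Fin 416) : d.f k ∈ d.B := d.range_f ▸ ⟨k, rfl⟩

theorem mem_inv {x y : Ω} {h : Perm Ω} (hh : h ∈ d.H) :
    (∃ k ∈ d.H, k y = h x) ↔ ∃ k ∈ d.H, k y = x := by
  constructor
  · rintro ⟨k, hk, e⟩
    exact ⟨h⁻¹ * k, mul_mem (inv_mem hh) hk, by rw [Perm.mul_apply, e, inv_app]⟩
  · rintro ⟨k, hk, e⟩
    exact ⟨h * k, mul_mem hh hk, by rw [Perm.mul_apply, e]⟩

theorem a_notMem_B : d.a ∉ d.B := by
  rintro ⟨h, hh, e⟩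
  have hb : d.b = d.a := h.injective (e.trans ((d.mem_H h).1 hh).2.symm)
  have hsub : d.B = {d.a} := Set.eq_singleton_iff_unique_mem.2
    ⟨⟨h, hh, e⟩, fun x ⟨k, hk, hx⟩ => by rw [← hx, hb]; exact ((d.mem_H k).1 hk).2⟩
  have h416 : d.B.ncard = 416 := d.orb_b
  rw [hsub, Set.ncard_singleton] at h416
  omega

theorem a_notMem_C : d.a ∉ d.C := by
  rintro ⟨h, hh, e⟩
  have hb : d.c = d.a := h.injective (e.trans ((d.mem_H h).1 hh).2.symm)
  have hsub : d.C = {d.a} := Set.eq_singleton_iff_unique_mem.2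
    ⟨⟨h, hh, e⟩, fun x ⟨k, hk, hx⟩ => by rw [← hx, hb]; exact ((d.mem_H k).1 hk).2⟩
  have h416 : d.C.ncard = 1365 := d.orb_c
  rw [hsub, Set.ncard_singleton] at h416
  omega

theorem not_C_of_B {x : Ω} (hB : x ∈ d.B) : x ∉ d.C := by
  intro hC
  obtain ⟨h, hh, rfl⟩ := hB
  have hcb : ∃ k ∈ d.H, k d.c = d.b := (d.mem_inv hh).1 hC
  obtain ⟨k, hk, e⟩ := hcb
  have hsub : d.B = d.C := Set.ext fun x => ⟨fun ⟨h', hh', e'⟩ => ⟨h' * k, mul_mem hh' hk,
      by rw [Perm.mul_apply, e, e']⟩, fun ⟨h', hh', e'⟩ => ⟨h' * k⁻¹, mul_mem hh' (inv_mem hk),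
      by rw [Perm.mul_apply, ← e, inv_app, e']⟩⟩
  have h416 : d.B.ncard = 416 := d.orb_b
  have h1365 : d.C.ncard = 1365 := d.orb_c
  rw [hsub] at h416
  omega

theorem cover (x : Ω) : x = d.a ∨ x ∈ d.B ∨ x ∈ d.C := by
  haveI := d.fin
  have hd : Disjoint d.B d.C := Set.disjoint_left.2 fun _ h => d.not_C_of_B h
  have ha : d.a ∉ d.B ∪ d.C := fun h => h.elim d.a_notMem_B d.a_notMem_C
  have hB : d.B.ncard = 416 := d.orb_b
  have hC : d.C.ncard = 1365 := d.orb_c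
  have hu : (insert d.a (d.B ∪ d.C)) = Set.univ := by
    refine Set.eq_of_subset_of_ncard_le (Set.subset_univ _) ?_
    rw [Set.ncard_univ, d.card_eq, Set.ncard_insert_of_notMem ha, Set.ncard_union_eq hd, hB, hC]
  exact hu.symm.subset (Set.mem_univ x)

/-- the orbital relation of the orbit of length 416 -/
def R (x y : Ω) : Prop := ∃ g ∈ d.grp, g d.a = x ∧ g⁻¹ y ∈ d.B

theorem R_iff {g : Perm Ω} (hg : g ∈ d.grp) {x y : Ω} (hx : g d.a = x) : d.R x y ↔ g⁻¹ y ∈ d.B := by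
  refine ⟨fun ⟨g', hg', hx', hy⟩ => ?_, fun hy => ⟨g, hg, hx, hy⟩⟩
  obtain ⟨k, hk, e⟩ := hy
  have hh : g⁻¹ * g' ∈ d.H := (d.mem_H _).2 ⟨mul_mem (inv_mem hg) hg', by rw [Perm.mul_apply, hx', ← hx, inv_app]⟩
  exact ⟨g⁻¹ * g' * k, mul_mem hh hk, by rw [Perm.mul_apply, Perm.mul_apply, e, app_inv]⟩

theorem R_a {y : Ω} : d.R d.a y ↔ y ∈ d.B := by
  rw [d.R_iff (one_mem _) (Perm.one_apply _), inv_one, Perm.one_apply]

theorem R_smul {g : Perm Ω} (hg : g ∈ d.grp) (x y : Ω) : d.R (g x) (g y) ↔ d.R x y := by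
  obtain ⟨k, hk, rfl⟩ := d.trans x
  rw [d.R_iff (mul_mem hg hk) (Perm.mul_apply g k _), d.R_iff hk rfl, mul_inv_rev, Perm.mul_apply, inv_app]

theorem R_H (h : ↥d.H) (x y : Ω) : d.R ((h : Perm Ω) x) ((h : Perm Ω) y) ↔ d.R x y :=
  d.R_smul (d.H_mem h) x y

theorem R_irrefl (x : Ω) : ¬ d.R x x := by
  obtain ⟨k, hk, rfl⟩ := d.trans x
  rw [d.R_iff hk rfl, inv_app]
  exact d.a_notMem_B

theorem ncard_R (x : Ω) : {y | d.R x y}.ncard = 416 := by
  obtain ⟨k, hk, rfl⟩ := d.trans x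
  have e : {y | d.R (k d.a) y} = k '' d.B := by
    ext y
    rw [Set.mem_setOf_eq, d.R_iff hk rfl]
    exact ⟨fun hy => ⟨_, hy, app_inv k y⟩, fun ⟨z, hz, e⟩ => by rw [← e, inv_app]; exact hz⟩
  rw [e, Set.ncard_image_of_injective _ k.injective]
  exact d.orb_b

/-- counting pairs in two ways -/
theorem double_count {α β : Type*} [Finite α] [Finite β] (r : α → β → Prop) {p q : ℕ}
    (h1 : ∀ x, {y | r x y}.ncard = p) (h2 : ∀ y, {x | r x y}.ncard = q) :
    Nat.card α * p = Nat.card β * q := by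
  classical
  haveI := Fintype.ofFinite α
  haveI := Fintype.ofFinite β
  have h := Finset.sum_card_bipartiteAbove_eq_sum_card_bipartiteBelow r
    (s := (Finset.univ : Finset α)) (t := (Finset.univ : Finset β))
  have e1 : ∀ x, (Finset.bipartiteAbove r Finset.univ x).card = p := fun x => by
    rw [← h1 x, ← Set.ncard_coe_finset]
    congr 1
    ext; simp [Finset.bipartiteAbove]
  have e2 : ∀ y, (Finset.bipartiteBelow r Finset.univ y).card = q := fun y => by
    rw [← h2 y, ← Set.ncard_coe_finset]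
    congr 1
    ext; simp [Finset.bipartiteBelow]
  simp only [e1, e2, Finset.sum_const, Finset.card_univ, smul_eq_mul] at h
  rw [Nat.card_eq_fintype_card, Nat.card_eq_fintype_card, h]

theorem R_to_a {x : Ω} : d.R x d.a ↔ x ∈ d.B := by
  haveI := d.fin
  set I : Set Ω := {x | d.R x d.a}
  have hin : ∀ y, {z | d.R z y}.ncard = I.ncard := by
    intro y
    obtain ⟨k, hk, rfl⟩ := d.trans y
    have e : {z | d.R z (k d.a)} = k '' I := by
      ext z
      constructor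
      · intro hz
        refine ⟨k⁻¹ z, ?_, app_inv k z⟩
        show d.R (k⁻¹ z) d.a
        rw [← d.R_smul hk, app_inv]
        exact hz
      · rintro ⟨w, hw, rfl⟩
        exact (d.R_smul hk w d.a).2 hw
    rw [e, Set.ncard_image_of_injective _ k.injective]
  have hI : I.ncard = 416 := by
    have h := double_count d.R d.ncard_R hin
    rw [d.card_eq] at h
    omega
  have hinv : ∀ h : ↥d.H, ∀ y ∈ I, (h : Perm Ω) y ∈ I := fun h y hy => by
    show d.R _ d.a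
    rw [← d.H_apply h, d.R_H]
    exact hy
  have hsub : I ⊆ d.B := by
    intro y hy
    rcases d.cover y with rfl | hB | hC
    · exact absurd hy (d.R_irrefl _)
    · exact hB
    · exfalso
      have hCI : d.C ⊆ I := by
        rintro z ⟨h, hh, rfl⟩
        obtain ⟨k, hk, rfl⟩ := hC
        have := hinv ⟨h * k⁻¹, mul_mem hh (inv_mem hk)⟩ _ hy
        rwa [show ((⟨h * k⁻¹, mul_mem hh (inv_mem hk)⟩ : ↥d.H) : Perm Ω) = h * k⁻¹ from rfl,
          Perm.mul_apply, inv_app] at this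
      have := Set.ncard_le_ncard hCI
      have h1365 : d.C.ncard = 1365 := d.orb_c
      omega
  have he := Set.eq_of_subset_of_ncard_le hsub (by rw [hI]; exact d.orb_b.le)
  exact Set.ext_iff.1 he x

theorem R_symm {x y : Ω} (h : d.R x y) : d.R y x := by
  obtain ⟨k, hk, rfl⟩ := d.trans y
  rw [d.R_iff hk rfl, ← d.R_to_a, ← d.R_smul hk, app_inv]
  exact h

theorem R_f_perm (h : ↥d.H) (i j : Fin 416) :
    d.R (d.f (d.perm h i)) (d.f (d.perm h j)) ↔ d.R (d.f i) (d.f j) := by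
  rw [d.f_perm, d.f_perm, d.R_H]

/-- the neighbours of a point in the orbit -/
def NB (x : Ω) : Set (Fin 416) := {i | d.R x (d.f i)}

open Classical in
theorem ncard_split (x : Ω) :
    {y | d.R x y}.ncard = (if x ∈ d.B then 1 else 0) + (d.NB x).ncard + {y | y ∈ d.C ∧ d.R x y}.ncard := by
  classical
  haveI := d.fin
  have e : {y | d.R x y} = ({y | y = d.a ∧ d.R x y} ∪ d.f '' d.NB x) ∪ {y | y ∈ d.C ∧ d.R x y} := by
    ext y
    constructor
    · intro hy
      rcases d.cover y with rfl | hB | hC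
      · exact Or.inl (Or.inl ⟨rfl, hy⟩)
      · obtain ⟨i, rfl⟩ := d.range_f.symm.subset hB
        exact Or.inl (Or.inr ⟨i, hy, rfl⟩)
      · exact Or.inr ⟨hC, hy⟩
    · rintro ((⟨-, h⟩ | ⟨i, h, rfl⟩) | ⟨-, h⟩)
      exacts [h, h, h]
  rw [e, Set.ncard_union_eq ?_, Set.ncard_union_eq ?_, Set.ncard_image_of_injective _ d.f_inj]
  · congr 2
    split_ifs with hx
    · rw [show {y | y = d.a ∧ d.R x y} = {d.a} from Set.ext fun y =>
        ⟨fun h => h.1, fun h => ⟨h, by rw [Set.mem_singleton_iff.1 h]; exact d.R_to_a.2 hx⟩⟩,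
        Set.ncard_singleton]
    · rw [show {y | y = d.a ∧ d.R x y} = ∅ from Set.eq_empty_iff_forall_notMem.2 fun y ⟨h, h'⟩ =>
        hx (d.R_to_a.1 (h ▸ h')), Set.ncard_empty]
  · refine Set.disjoint_left.2 ?_
    rintro y ⟨rfl, -⟩ ⟨i, -, e⟩
    exact d.a_notMem_B (e ▸ d.f_mem i)
  · refine Set.disjoint_left.2 ?_
    rintro y (⟨rfl, -⟩ | ⟨i, -, rfl⟩) ⟨hC, -⟩
    exacts [d.a_notMem_C hC, d.not_C_of_B (d.f_mem i) hC]

theorem NB_smul (h : ↥d.H) (x : Ω) : d.NB ((h : Perm Ω) x) = d.perm h '' d.NB x := by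
  ext i
  obtain ⟨j, rfl⟩ := (d.perm h).surjective i
  rw [Function.Injective.mem_set_image (d.perm h).injective]
  show d.R _ _ ↔ d.R _ _
  rw [d.f_perm, d.R_H]

end Cfg

end CfsgLib.Spor.SuzRank3
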