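import Cfsg.Agent.Lib.Spor.SuzRank3.Config

/-!
The orbital graph is determined by the data.
-/

set_option autoImplicit false
set_option maxRecDepth 10000

namespace CfsgLib.Spor.SuzRank3

open CfsgLib.G2J2 Equiv

/-- the relation between two sets -/
def LRel (m l : Fin 1365) : Prop := ∃ σ : ↥G0, lineHom σ l₀ = m ∧ lab₀ ((lineHom σ)⁻¹ l) = 2

namespace Cfg

variable {Ω : Type*} (d : Cfg Ω)

/-- adjacency in the orbit, seen from the base point -/
def P₀ : Set (Fin 416) := d.NB (d.f z₀)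

theorem P₀_class : ∀ i j : Fin 416, hl i.val = hl j.val → (i ∈ d.P₀ ↔ j ∈ d.P₀) := by
  intro i j e
  obtain ⟨σ, hσ, hz, hi⟩ := stab_trans e
  obtain ⟨h, rfl⟩ := d.perm_surj hσ
  have := d.R_f_perm h z₀ i
  rw [hz, hi] at this
  exact this.symm

theorem card_fib (l : ℕ) (hl' : l < 3) :
    {i : Fin 416 | hl i.val = l}.ncard = [1, 315, 100].getD l 0 := by
  obtain ⟨h0, h2, h1⟩ := card_hl
  rw [← Nat.card_coe_set_eq]
  interval_cases l
  exacts [h0, h1, h2]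

theorem ncard_P₀_cases : d.P₀.ncard ∈ [0, 100, 315, 415] ∧
    (d.P₀.ncard = 100 → ∀ i, i ∈ d.P₀ ↔ hl i.val = 2) ∧ (d.P₀.ncard = 415 → ∀ i, i ∈ d.P₀ ↔ i ≠ z₀) := by
  have hz : z₀ ∉ d.P₀ := d.R_irrefl _
  obtain ⟨b, hb, hP⟩ := exists_mask (k := 3) hl hl_lt d.P₀ d.P₀_class
  have h0 : b.testBit 0 = false := by
    by_contra h
    exact hz ((hP _).2 (by rw [hl_zS]; simpa using h))
  have hu : ∀ (p q : Bool), b.testBit 1 = p → b.testBit 2 = q → d.P₀.ncard =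
      (if p then 315 else 0) + (if q then 100 else 0) := by
    intro p q hp hq
    have e : d.P₀ = (if p then {i : Fin 416 | hl i.val = 1} else ∅) ∪
        (if q then {i : Fin 416 | hl i.val = 2} else ∅) := by
      ext i
      rw [hP i]
      have h3 := hl_lt i
      rcases (show hl i.val = 0 ∨ hl i.val = 1 ∨ hl i.val = 2 by omega) with e | e | e <;>
        cases p <;> cases q <;> simp_all
    rw [e, Set.ncard_union_eq]
    · cases p <;> cases q <;> simp [card_fib]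
    · cases p <;> cases q <;> simp [Set.disjoint_left]
      all_goals (intro a ha; omega)
  cases hp : b.testBit 1 <;> cases hq : b.testBit 2 <;> have hn := hu _ _ hp hq <;> simp at hn <;>
    rw [hn] <;> refine ⟨by simp, ?_, ?_⟩ <;> intro h <;> try omega
  all_goals intro i; rw [hP i]
  all_goals
    have h3 := hl_lt i
    rcases (show hl i.val = 0 ∨ hl i.val = 1 ∨ hl i.val = 2 by omega) with e | e | e <;> simp_all
  · exact eq_of_hl_zero e
  · rintro rfl; rw [hl_zS] at e; omega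
  · rintro rfl; rw [hl_zS] at e; omega

theorem NB_f (i : Fin 416) : ∀ j, j ∈ d.NB (d.f i) ↔ ∃ σ ∈ G0, σ z₀ = i ∧ σ⁻¹ j ∈ d.P₀ := by
  intro j
  obtain ⟨σ, hσ, rfl⟩ := G0_trans z₀ i
  obtain ⟨h, rfl⟩ := d.perm_surj hσ
  constructor
  · intro hj
    refine ⟨_, d.perm_mem h, rfl, ?_⟩
    obtain ⟨k, rfl⟩ := (d.perm h).surjective j
    rw [inv_app]
    exact (d.R_f_perm h z₀ k).1 hj
  · rintro ⟨τ, hτ, e, hj⟩
    obtain ⟨k, rfl⟩ := d.perm_surj hτ
    obtain ⟨m, rfl⟩ := (d.perm k).surjective j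
    rw [inv_app] at hj
    show d.R _ _
    rw [← e]
    exact (d.R_f_perm k z₀ m).2 hj

theorem ncard_NB_f (i : Fin 416) : (d.NB (d.f i)).ncard = d.P₀.ncard := by
  obtain ⟨σ, hσ, rfl⟩ := G0_trans z₀ i
  obtain ⟨h, rfl⟩ := d.perm_surj hσ
  rw [d.f_perm, d.NB_smul, Set.ncard_image_of_injective _ (d.perm h).injective]
  rfl

theorem count_BC : ∃ μ, (∀ x ∈ d.C, (d.NB x).ncard = μ) ∧ 416 * (415 - d.P₀.ncard) = 1365 * μ := by
  haveI := d.fin
  refine ⟨(d.NB d.c).ncard, ?_, ?_⟩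
  · rintro x ⟨h, hh, rfl⟩
    rw [show h d.c = ((⟨h, hh⟩ : ↥d.H) : Perm Ω) d.c from rfl, d.NB_smul,
      Set.ncard_image_of_injective _ (d.perm _).injective]
  · have h := double_count (fun (i : Fin 416) (y : d.C) => d.R (d.f i) y.1) (p := 415 - d.P₀.ncard)
      (q := (d.NB d.c).ncard) (fun i => ?_) (fun y => ?_)
    · rw [Nat.card_fin, Nat.card_coe_set_eq, show d.C.ncard = 1365 from d.orb_c] at h
      exact h
    · have hs := d.ncard_split (d.f i)
      rw [d.ncard_R, if_pos (d.f_mem i), d.ncard_NB_f] at hs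
      rw [← Set.ncard_image_of_injective _ Subtype.val_injective,
        show (Subtype.val '' {y : d.C | d.R (d.f i) y.1}) = {y | y ∈ d.C ∧ d.R (d.f i) y} from ?_]
      · omega
      · ext y; simp [and_comm]
    · obtain ⟨_, ⟨h, hh, rfl⟩⟩ := y
      show {i | d.R (d.f i) (h d.c)}.ncard = _
      rw [show {i | d.R (d.f i) (h d.c)} = d.NB (h d.c) from Set.ext fun i => ⟨d.R_symm, d.R_symm⟩,
        show h d.c = ((⟨h, hh⟩ : ↥d.H) : Perm Ω) d.c from rfl, d.NB_smul,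
        Set.ncard_image_of_injective _ (d.perm _).injective]

theorem not_clique : d.P₀.ncard ≠ 415 := by
  haveI := d.fin
  intro h415
  have hall := d.ncard_P₀_cases.2.2 h415
  have hBB : ∀ x ∈ d.B, ∀ y ∈ d.B, x ≠ y → d.R x y := by
    intro x hx y hy hne
    obtain ⟨i, rfl⟩ := d.range_f.symm.subset hx
    obtain ⟨j, rfl⟩ := d.range_f.symm.subset hy
    obtain ⟨σ, hσ, rfl⟩ := G0_trans z₀ i
    obtain ⟨j, rfl⟩ := σ.surjective j
    exact (d.NB_f _ _).2 ⟨σ, hσ, rfl, (hall _).2 (by rw [inv_app]; rintro rfl; exact hne rfl)⟩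
  set Δ : Set Ω := insert d.a d.B
  have hΔ : ∀ x ∈ Δ, ∀ y, (y = x ∨ d.R x y) ↔ y ∈ Δ := by
    intro x hx
    rcases Set.mem_insert_iff.1 hx with rfl | hB
    · intro y; rw [d.R_a]; exact Set.mem_insert_iff.symm
    · have hsub : {y | y = x ∨ d.R x y} ⊇ Δ := by
        intro y hy
        rcases Set.mem_insert_iff.1 hy with rfl | hy
        · exact Or.inr (d.R_to_a.2 hB)
        · by_cases e : y = x
          · exact Or.inl e
          · exact Or.inr (hBB x hB y hy (Ne.symm e))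
      have e := Set.eq_of_subset_of_ncard_le hsub (by
        rw [Set.ncard_insert_of_notMem d.a_notMem_B, show d.B.ncard = 416 from d.orb_b,
          show {y | y = x ∨ d.R x y} = insert x {y | d.R x y} from rfl]
        refine (Set.ncard_insert_le _ _).trans ?_
        rw [d.ncard_R])
      exact fun y => (Set.ext_iff.1 e y).symm
  haveI : MulAction.IsPretransitive d.grp Ω := ⟨fun x y => by
    obtain ⟨k, hk, rfl⟩ := d.trans x
    obtain ⟨k', hk', rfl⟩ := d.trans y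
    exact ⟨⟨k' * k⁻¹, mul_mem hk' (inv_mem hk)⟩, by
      show (k' * k⁻¹) (k d.a) = k' d.a
      rw [Perm.mul_apply, inv_app]⟩⟩
  open scoped Pointwise in
  have hB : MulAction.IsBlock d.grp Δ := by
    rw [MulAction.isBlock_iff_smul_eq_or_disjoint]
    intro g
    by_cases hd : Disjoint (g • Δ) Δ
    · exact Or.inr hd
    left
    obtain ⟨z, hz, hzΔ⟩ := Set.not_disjoint_iff.1 hd
    obtain ⟨y, hy, rfl⟩ := hz
    ext w
    rw [← hΔ _ hzΔ w, Set.mem_smul_set_iff_inv_smul_mem, ← hΔ y hy]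
    show (g : Perm Ω)⁻¹ w = y ∨ d.R y ((g : Perm Ω)⁻¹ w) ↔ w = (g : Perm Ω) y ∨ d.R ((g : Perm Ω) y) w
    conv_rhs => rw [← app_inv (g : Perm Ω) w, d.R_smul g.2, (g : Perm Ω).injective.eq_iff]
  have hd := hB.ncard_dvd_card ⟨d.a, Set.mem_insert _ _⟩
  rw [Set.ncard_insert_of_notMem d.a_notMem_B, show d.B.ncard = 416 from d.orb_b, d.card_eq] at hd
  norm_num at hd

theorem P₀_eq : ∀ i, i ∈ d.P₀ ↔ hl i.val = 2 := by
  obtain ⟨hm, h100, -⟩ := d.ncard_P₀_cases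
  obtain ⟨μ, -, hμ⟩ := d.count_BC
  have := d.not_clique
  refine h100 ?_
  simp only [List.mem_cons, List.not_mem_nil, or_false] at hm
  rcases hm with h | h | h | h
  · rw [h] at hμ; omega
  · exact h
  · rw [h] at hμ; omega
  · exact absurd h this

theorem R_ff (i j : Fin 416) : d.R (d.f i) (d.f j) ↔ Adj i j := by
  obtain ⟨σ, hσ, rfl⟩ := G0_trans z₀ i
  obtain ⟨h, rfl⟩ := d.perm_surj hσ
  obtain ⟨k, rfl⟩ := (d.perm h).surjective j
  rw [d.R_f_perm, adj_map (d.perm_mem h), adj_zero]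
  exact d.P₀_eq k

theorem ncard_NB_C {x : Ω} (hx : x ∈ d.C) : (d.NB x).ncard = 96 := by
  obtain ⟨μ, hμ, hc⟩ := d.count_BC
  have : d.P₀.ncard = 100 := by
    have h := card_fib 2 (by norm_num)
    rw [show d.P₀ = {i : Fin 416 | hl i.val = 2} from Set.ext d.P₀_eq]
    exact h
  rw [this] at hc
  rw [hμ x hx]
  omega

theorem common_NB {x : Ω} (hx : x ∈ d.C) {i : Fin 416} (hi : i ∈ d.NB x) :
    Nat.card {k : Fin 416 // k ∈ d.NB x ∧ Adj i k} = 20 := by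
  haveI := d.fin
  obtain ⟨g, hg, hga⟩ := d.trans (d.f i)
  have hpre : ∀ y, d.R (d.f i) y → ∃ u, g (d.f u) = y := by
    intro y hy
    rw [d.R_iff hg hga] at hy
    obtain ⟨u, hu⟩ := d.range_f.symm.subset hy
    exact ⟨u, by rw [hu, app_inv]⟩
  obtain ⟨u, hu⟩ := hpre d.a (d.R_to_a.2 (d.f_mem i))
  obtain ⟨w, hw⟩ := hpre x (d.R_symm hi)
  have hax : ¬ d.R d.a x := fun h => d.not_C_of_B (d.R_a.1 h) hx
  have hnadj : ¬ Adj u w := by
    rw [← d.R_ff, ← d.R_smul hg, hu, hw]; exact hax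
  have hne : u ≠ w := fun e => d.a_notMem_C (by rw [← hu, e, hw]; exact hx)
  rw [← common hne hnadj]
  refine Nat.card_congr (Equiv.ofBijective (fun k => ⟨(hpre (d.f k.1) ((d.R_ff _ _).2 k.2.2)).choose, ?_⟩) ⟨?_, ?_⟩)
  · have e := (hpre (d.f k.1) ((d.R_ff _ _).2 k.2.2)).choose_spec
    refine ⟨?_, ?_⟩
    · rw [← d.R_ff, ← d.R_smul hg, hu, e]; exact d.R_a.2 (d.f_mem _)
    · rw [← d.R_ff, ← d.R_smul hg, hw, e]; exact k.2.1
  · intro k l e
    have e1 := (hpre (d.f k.1) ((d.R_ff _ _).2 k.2.2)).choose_spec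
    have e2 := (hpre (d.f l.1) ((d.R_ff _ _).2 l.2.2)).choose_spec
    have e' : (hpre (d.f k.1) ((d.R_ff _ _).2 k.2.2)).choose = (hpre (d.f l.1) ((d.R_ff _ _).2 l.2.2)).choose :=
      congrArg Subtype.val e
    rw [e', e2] at e1
    exact Subtype.ext (d.f_inj e1.symm)
  · rintro ⟨m, hm1, hm2⟩
    rw [← d.R_ff, ← d.R_smul hg, hu] at hm1
    rw [← d.R_ff, ← d.R_smul hg, hw] at hm2
    obtain ⟨k, hk⟩ := d.range_f.symm.subset (d.R_a.1 hm1)
    have hk1 : k ∈ d.NB x := by show d.R x (d.f k); rw [hk]; exact hm2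
    have hk2 : Adj i k := by
      rw [← d.R_ff, hk, ← hga, d.R_smul hg]; exact d.R_a.2 (d.f_mem m)
    refine ⟨⟨k, hk1, hk2⟩, Subtype.ext (d.f_inj (g.injective ?_))⟩
    exact ((hpre (d.f k) ((d.R_ff _ _).2 hk2)).choose_spec).trans hk

theorem exists_c₀ : ∃ x ∈ d.C, d.NB x = lineSet l₀ := by
  haveI := d.fin
  obtain ⟨P, hP, hgens⟩ := exists_U
  haveI : Fact (Nat.Prime 2) := ⟨Nat.prime_two⟩
  set Q : Subgroup ↥d.H := P.comap d.ψ.toMonoidHom
  have hQ : IsPGroup 2 Q := hP.comap_of_injective _ d.ψ.injective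
  let S : SubMulAction ↥Q Ω :=
    { carrier := d.C
      smul_mem' := fun q x hx => (d.mem_inv (h := ((q.1 : ↥d.H) : Perm Ω)) (q.1).2).2 hx }
  have hndvd : ¬ 2 ∣ Nat.card S := by
    rw [show Nat.card S = 1365 from (Nat.card_coe_set_eq d.C).trans d.orb_c]
    norm_num
  obtain ⟨x, hx⟩ := hQ.nonempty_fixed_point_of_prime_not_dvd_card S hndvd
  refine ⟨x.1, x.2, select (fun g hg σ hσ hσl i => ?_) (d.ncard_NB_C x.2) (fun i hi => d.common_NB x.2 hi)⟩
  obtain ⟨τ, hτ, hτl⟩ := hgens g hg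
  obtain ⟨h, hh⟩ := d.ψ.surjective τ
  have e : d.perm h = σ := Equiv.ext fun i => Fin.ext (by
    rw [hσl i]; show ((d.ψ h : Perm (Fin 416)) i).val = _; rw [hh, hτl])
  have hfix : (h : Perm Ω) x.1 = x.1 :=
    congrArg Subtype.val (hx ⟨h, show d.ψ h ∈ P by rw [hh]; exact hτ⟩)
  conv_rhs => rw [← Function.Injective.mem_set_image (d.perm h).injective, ← d.NB_smul, hfix, e]

/-- the point with the first set of neighbours -/
noncomputable def c₀ : Ω := d.exists_c₀.choose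

theorem c₀_mem : d.c₀ ∈ d.C := d.exists_c₀.choose_spec.1

theorem NB_c₀ : d.NB d.c₀ = lineSet l₀ := d.exists_c₀.choose_spec.2

theorem mem_C {x : Ω} (hx : x ∈ d.C) : ∃ h : ↥d.H, (h : Perm Ω) d.c₀ = x := by
  obtain ⟨h, hh, rfl⟩ := hx
  obtain ⟨k, hk, e⟩ := d.c₀_mem
  exact ⟨⟨h * k⁻¹, mul_mem hh (inv_mem hk)⟩, by
    show (h * k⁻¹) d.c₀ = h d.c
    rw [← e, Perm.mul_apply, inv_app]⟩

theorem NB_h (h : ↥d.H) : d.NB ((h : Perm Ω) d.c₀) = lineSet (lineHom (d.ψ h) l₀) := by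
  rw [d.NB_smul, d.NB_c₀]
  exact lineHom_spec _ _

theorem exists_e : ∃ e : Fin 1365 → Ω, Function.Injective e ∧ Set.range e = d.C ∧
    ∀ m, d.NB (e m) = lineSet m := by
  haveI := d.fin
  have hx : ∀ m, ∃ h : ↥d.H, lineHom (d.ψ h) l₀ = m := fun m => by
    obtain ⟨σ, hσ⟩ := lineHom_trans m
    exact ⟨d.ψ.symm σ, by rw [MulEquiv.apply_symm_apply, hσ]⟩
  choose η hη using hx
  have hNB : ∀ m, d.NB ((η m : Perm Ω) d.c₀) = lineSet m := fun m => by rw [d.NB_h, hη]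
  have hinj : Function.Injective fun m => (η m : Perm Ω) d.c₀ := fun m l e =>
    lineSet_inj (by rw [← hNB m, ← hNB l]; exact congrArg d.NB e)
  refine ⟨_, hinj, Set.eq_of_subset_of_ncard_le ?_ ?_, hNB⟩
  · rintro _ ⟨m, rfl⟩
    exact (d.mem_inv (η m).2).2 d.c₀_mem
  · rw [Set.ncard_range_of_injective hinj, Nat.card_fin]
    exact d.orb_c.le

/-- the bijection with the third orbit -/
noncomputable def e : Fin 1365 → Ω := d.exists_e.choose

theorem e_inj : Function.Injective d.e := d.exists_e.choose_spec.1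

theorem range_e : Set.range d.e = d.C := d.exists_e.choose_spec.2.1

theorem e_mem (m : Fin 1365) : d.e m ∈ d.C := d.range_e ▸ ⟨m, rfl⟩

theorem NB_e (m : Fin 1365) : d.NB (d.e m) = lineSet m := d.exists_e.choose_spec.2.2 m

theorem eq_of_NB {x y : Ω} (hx : x ∈ d.C) (hy : y ∈ d.C) (h : d.NB x = d.NB y) : x = y := by
  obtain ⟨m, rfl⟩ := d.range_e.symm.subset hx
  obtain ⟨l, rfl⟩ := d.range_e.symm.subset hy
  rw [d.NB_e, d.NB_e] at h
  rw [lineSet_inj h]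

theorem e_perm (h : ↥d.H) (m : Fin 1365) : (h : Perm Ω) (d.e m) = d.e (lineHom (d.ψ h) m) :=
  d.eq_of_NB ((d.mem_inv h.2).2 (d.e_mem m)) (d.e_mem _) (by
    rw [d.NB_smul, d.NB_e, d.NB_e]; exact lineHom_spec _ _)

theorem R_e₀ : ∀ l, d.R (d.e l₀) (d.e l) ↔ lab₀ l = 2 := by
  haveI := d.fin
  refine select320 (T := {l | d.R (d.e l₀) (d.e l)}) (fun σ hσ x => ?_) (d.R_irrefl _) ?_
  · show d.R _ _ ↔ d.R _ _
    have h1 := d.e_perm (d.ψ.symm σ) x
    have h0 := d.e_perm (d.ψ.symm σ) l₀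
    rw [MulEquiv.apply_symm_apply] at h1 h0
    rw [hσ] at h0
    rw [← h1]
    conv_lhs => rw [← h0]
    exact d.R_H _ _ _
  · have hs := d.ncard_split (d.e l₀)
    rw [d.ncard_R, if_neg (fun h => d.not_C_of_B h (d.e_mem _)), d.ncard_NB_C (d.e_mem _),
      show {y | y ∈ d.C ∧ d.R (d.e l₀) y} = d.e '' {l | d.R (d.e l₀) (d.e l)} from Set.ext fun y =>
        ⟨fun ⟨hy, hr⟩ => by obtain ⟨l, rfl⟩ := d.range_e.symm.subset hy; exact ⟨l, hr, rfl⟩,
          fun ⟨l, hl, e⟩ => e ▸ ⟨d.e_mem l, hl⟩⟩, Set.ncard_image_of_injective _ d.e_inj] at hs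
    omega

theorem R_ee (m l : Fin 1365) : d.R (d.e m) (d.e l) ↔ LRel m l := by
  have key : ∀ σ : ↥G0, lineHom σ l₀ = m → (d.R (d.e m) (d.e l) ↔ lab₀ ((lineHom σ)⁻¹ l) = 2) := by
    intro σ hσ
    obtain ⟨h, rfl⟩ := d.ψ.surjective σ
    rw [← d.R_e₀, ← d.R_H h (d.e l₀) (d.e ((lineHom (d.ψ h))⁻¹ l)), d.e_perm, d.e_perm, hσ, app_inv]
  constructor
  · intro h
    obtain ⟨σ, hσ⟩ := lineHom_trans m
    exact ⟨σ, hσ, (key σ hσ).1 h⟩
  · rintro ⟨σ, hσ, h⟩
    exact (key σ hσ).2 h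

end Cfg

end CfsgLib.Spor.SuzRank3
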