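import Cfsg.Agent.Lib.Spor.SuzRank3.Top
import Cfsg.Agent.Lib.Spor.SuzRank3.ChkAdj
import Cfsg.Agent.Lib.Spor.SuzRank3.ChkLine0
import Cfsg.Agent.Lib.Spor.SuzRank3.ChkLineImg0
import Cfsg.Agent.Lib.Spor.SuzRank3.ChkLineImg1
import Cfsg.Agent.Lib.Spor.SuzRank3.ChkLineImg2
import Cfsg.Agent.Lib.Spor.SuzRank3.ChkLineImg3

/-!
The graph of degree 100 on the 416 points is invariant, and the 1365 sets are permuted.
-/

set_option autoImplicit false
set_option maxRecDepth 10000

namespace CfsgLib.Spor.SuzRank3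

open CfsgLib.G2J2 Equiv

/-- the base point -/
abbrev z₀ : Fin 416 := zS

theorem exists_gen416 (g : ℕ) (hg : g < 8) : ∃ σ ∈ G0, ∀ i : Fin 416, (σ i).val = sImg g i.val := by
  obtain ⟨K, _, _, hK, -⟩ := Suz.G2Four.exists_equiv
  obtain ⟨_⟩ := exists_four hK
  exact ⟨setHom (genG (F := K) ⟨g, hg⟩), by rw [← range_setHom K]; exact ⟨_, rfl⟩,
    fun i => setHom_gen _ i⟩

theorem G0_induction (P : Perm (Fin 416) → Prop)
    (hgen : ∀ g < 8, ∀ σ ∈ G0, (∀ i : Fin 416, (σ i).val = sImg g i.val) → P σ) (h1 : P 1)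
    (hmul : ∀ σ τ, P σ → P τ → P (σ * τ)) (hinv : ∀ σ, P σ → P σ⁻¹) : ∀ σ ∈ G0, P σ := by
  intro σ hσ
  induction hσ using Subgroup.closure_induction with
  | mem y hy =>
    obtain ⟨g, hg, h⟩ := hy
    exact hgen g hg y (Subgroup.subset_closure ⟨g, hg, h⟩) h
  | one => exact h1
  | mul a b _ _ ha hb => exact hmul a b ha hb
  | inv a _ ha => exact hinv a ha

theorem G0_trans (i j : Fin 416) : ∃ σ ∈ G0, σ i = j := by
  obtain ⟨K, _, _, hK, -⟩ := Suz.G2Four.exists_equiv
  obtain ⟨_⟩ := exists_four hK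
  obtain ⟨g, hg⟩ := CfsgLib.G2J2.transitive (F := K) i
  obtain ⟨h, hh⟩ := CfsgLib.G2J2.transitive (F := K) j
  refine ⟨setHom (h * g⁻¹), by rw [← range_setHom K]; exact ⟨_, rfl⟩, ?_⟩
  rw [map_mul, map_inv, Perm.mul_apply, ← hg, ← Perm.mul_apply _ (setHom g), inv_mul_cancel, Perm.one_apply, hh]

theorem stab_trans {i j : Fin 416} (h : hl i.val = hl j.val) : ∃ σ ∈ G0, σ z₀ = z₀ ∧ σ i = j := by
  obtain ⟨K, _, _, hK, -⟩ := Suz.G2Four.exists_equiv
  obtain ⟨_⟩ := exists_four hK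
  obtain ⟨g, hg⟩ := (orbit_iff (F := K) i j).2 h
  exact ⟨setHom (g : ↥(Cfsg.Lie.chevG2.group K)), by rw [← range_setHom K]; exact ⟨_, rfl⟩, g.2, hg⟩

theorem eq_of_hl_zero {i : Fin 416} (h : hl i.val = 0) : i = z₀ := by
  obtain ⟨σ, -, hz, hi⟩ := stab_trans (i := z₀) (j := i) (hl_zS.trans h.symm)
  exact hi.symm.trans hz

/-- adjacency -/
def Adj (i j : Fin 416) : Prop := adjB i.val j.val = true

theorem mem_adjEl {i : ℕ} (hi : i < 416) (j : ℕ) :
    adjB i j = true ↔ ∃ k < 100, adjEl i k = j := by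
  have h := adj_ok
  simp only [adjFacts, Bool.and_eq_true] at h
  have h' := of_allB h.1 i hi
  simp only [Bool.and_eq_true] at h'
  rw [adjB, ← Nat.eq_of_beq_eq_true h'.1, testBit_maskOf]

theorem adjEl_lt {i k : ℕ} (hi : i < 416) (hk : k < 100) : adjEl i k < 416 := by
  have h := adj_ok
  simp only [adjFacts, Bool.and_eq_true] at h
  have h' := of_allB h.1 i hi
  simp only [Bool.and_eq_true] at h'
  simpa using of_allB h'.2 k hk

theorem adj_map {σ : Perm (Fin 416)} (hσ : σ ∈ G0) : ∀ i j, Adj (σ i) (σ j) ↔ Adj i j := by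
  refine G0_induction (fun σ => ∀ i j, Adj (σ i) (σ j) ↔ Adj i j) ?_ (fun i j => Iff.rfl)
    (fun a b ha hb i j => (ha _ _).trans (hb i j)) (fun a ha i j => ?_) σ hσ
  · intro g hg σ _ hσ i j
    have h := adj_ok
    simp only [adjFacts, Bool.and_eq_true] at h
    have h' := Nat.eq_of_beq_eq_true (of_allB (of_allB h.2 g hg) i.val i.isLt)
    show adjB (σ i).val (σ j).val = true ↔ adjB i.val j.val = true
    rw [hσ i, adjB, ← h', testBit_maskOf, mem_adjEl i.isLt]
    constructor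
    · rintro ⟨k, hk, e⟩
      refine ⟨k, hk, ?_⟩
      have : σ ⟨adjEl i k, adjEl_lt i.isLt hk⟩ = σ j := Fin.ext ((hσ _).trans e)
      exact congrArg Fin.val (σ.injective this)
    · rintro ⟨k, hk, e⟩
      exact ⟨k, hk, by rw [e, hσ j]⟩
  · have := (ha (a⁻¹ i) (a⁻¹ j)).symm
    rwa [show a (a⁻¹ i) = i from a.apply_symm_apply i, show a (a⁻¹ j) = j from a.apply_symm_apply j] at this

theorem adj_zero (j : Fin 416) : Adj z₀ j ↔ hl j.val = 2 := by
  have h := adjZ_ok
  simp only [adjZFacts, Bool.and_eq_true] at h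
  have h' := of_allB h.1.1.1 j.val j.isLt
  simp only [Bool.and_eq_true, beq_iff_eq] at h'
  show adjB Data.z0 j.val = true ↔ _
  rw [h'.1]
  exact Nat.beq_eq ▸ Iff.rfl

theorem adj_irrefl (i : Fin 416) : ¬ Adj i i := by
  obtain ⟨σ, hσ, rfl⟩ := G0_trans z₀ i
  rw [adj_map hσ, adj_zero, hl_zS]
  decide

theorem card_hl : Nat.card {i : Fin 416 // hl i.val = 0} = 1 ∧ Nat.card {i : Fin 416 // hl i.val = 2} = 100 ∧
    Nat.card {i : Fin 416 // hl i.val = 1} = 315 := by
  have h := adjZ_ok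
  simp only [adjZFacts, Bool.and_eq_true] at h
  obtain ⟨⟨⟨-, h0⟩, h2⟩, h1⟩ := h
  have key : ∀ l, Nat.card {i : Fin 416 // hl i.val = l} = countB 416 fun i => Nat.beq (hl i) l :=
    fun l => card_countB _ _ fun i => ⟨fun e => by rw [e]; exact Nat.beq_refl l, Nat.eq_of_beq_eq_true⟩
  rw [key, key, key]
  exact ⟨Nat.eq_of_beq_eq_true h0, Nat.eq_of_beq_eq_true h2, Nat.eq_of_beq_eq_true h1⟩

/-- two points not adjacent have twenty common neighbours -/
theorem common {i j : Fin 416} (hne : i ≠ j) (h : ¬ Adj i j) :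
    Nat.card {k : Fin 416 // Adj i k ∧ Adj j k} = 20 := by
  obtain ⟨σ, hσ, rfl⟩ := G0_trans z₀ i
  obtain ⟨j, rfl⟩ := σ.surjective j
  rw [adj_map hσ, adj_zero] at h
  have h1 : hl j.val = 1 := by
    have h3 := hl_lt j
    have : hl j.val ≠ 0 := fun e => hne (by rw [eq_of_hl_zero e])
    omega
  have hh := adjZ_ok
  simp only [adjZFacts, Bool.and_eq_true] at hh
  have h' := of_allB hh.1.1.1 j.val j.isLt
  simp only [Bool.and_eq_true, Bool.or_eq_true, Bool.not_eq_true'] at h'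
  rcases h'.2 with h' | h'
  · rw [h1] at h'; simp at h'
  rw [← Nat.eq_of_beq_eq_true h', ← card_countB _ (fun k : Fin 416 => Adj z₀ k ∧ Adj j k)
    (fun k => by rw [Bool.and_eq_true]; rfl)]
  exact Nat.card_congr (σ.symm.subtypeEquiv fun k => by
    conv_lhs => rw [← σ.apply_symm_apply k]
    rw [adj_map hσ, adj_map hσ])

/-- a set of 96 points -/
def lineSet (m : Fin 1365) : Set (Fin 416) := {i | lineB m.val i.val = true}

theorem lineB_iff {m : ℕ} (hm : m < 1365) (i : ℕ) : lineB m i = true ↔ ∃ k < 96, lineEl m k = i := by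
  have h := line_ok
  simp only [lineFacts, Bool.and_eq_true] at h
  have h' := of_allB h.1 m hm
  simp only [Bool.and_eq_true] at h'
  rw [lineB, ← Nat.eq_of_beq_eq_true h'.1, testBit_maskOf]

theorem lineEl_lt {m k : ℕ} (hm : m < 1365) (hk : k < 96) : lineEl m k < 416 := by
  have h := line_ok
  simp only [lineFacts, Bool.and_eq_true] at h
  have h' := of_allB h.1 m hm
  simp only [Bool.and_eq_true] at h'
  simpa using of_allB h'.2 k hk

theorem lineMask_mono : ∀ {i j : ℕ}, i < j → j < 1365 → entry 0 GD.lineM i < entry 0 GD.lineM j := by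
  intro i j hij
  have h := line_ok
  simp only [lineFacts, Bool.and_eq_true] at h
  induction j, hij using Nat.le_induction with
  | base => intro hj; simpa using of_allB h.2 i (by omega)
  | succ j hij ih =>
    intro hj
    exact (ih (by omega)).trans (by simpa using of_allB h.2 j (by omega))

theorem lineSet_inj : Function.Injective lineSet := by
  intro a b e
  have h : entry 0 GD.lineM a.val = entry 0 GD.lineM b.val := Nat.eq_of_testBit_eq fun n => Bool.eq_iff_iff.2 (by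
    show lineB a.val n = true ↔ lineB b.val n = true
    by_cases hn : n < 416
    · exact Set.ext_iff.1 e ⟨n, hn⟩
    · constructor <;> intro h
      · obtain ⟨k, hk, rfl⟩ := (lineB_iff a.isLt n).1 h
        exact absurd (lineEl_lt a.isLt hk) hn
      · obtain ⟨k, hk, rfl⟩ := (lineB_iff b.isLt n).1 h
        exact absurd (lineEl_lt b.isLt hk) hn)
  rcases Nat.lt_trichotomy a.val b.val with hl | hl | hl
  · exact absurd h (lineMask_mono hl b.isLt).ne
  · exact Fin.ext hl
  · exact absurd h (lineMask_mono hl a.isLt).ne'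

theorem lineImg_facts {g : ℕ} (hg : g < 8) : lineImgFacts g = true := by
  interval_cases g
  exacts [lineImg_ok0, lineImg_ok1, lineImg_ok2, lineImg_ok3, lineImg_ok4, lineImg_ok5, lineImg_ok6, lineImg_ok7]

theorem image_gen {g : ℕ} (hg : g < 8) {σ : Perm (Fin 416)} (hσ : ∀ i : Fin 416, (σ i).val = sImg g i.val)
    (m : Fin 1365) : ∃ h : lImg g m.val < 1365, σ '' lineSet m = lineSet ⟨lImg g m.val, h⟩ := by
  have h := of_allB (lineImg_facts hg) m.val m.isLt
  simp only [Bool.and_eq_true, Nat.blt_eq] at h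
  refine ⟨h.1, Set.ext fun q => ?_⟩
  show _ ↔ (entry 0 GD.lineM (lImg g m.val)).testBit q.val = true
  rw [← Nat.eq_of_beq_eq_true h.2, testBit_maskOf, Set.mem_image]
  constructor
  · rintro ⟨i, hi, rfl⟩
    obtain ⟨k, hk, e⟩ := (lineB_iff m.isLt _).1 hi
    exact ⟨k, hk, by rw [e, hσ]⟩
  · rintro ⟨k, hk, e⟩
    exact ⟨⟨lineEl m k, lineEl_lt m.isLt hk⟩, (lineB_iff m.isLt _).2 ⟨k, hk, rfl⟩,
      Fin.ext ((hσ _).trans e)⟩

/-- the action on subsets -/
noncomputable def subHom : ↥G0 →* Perm (Set (Fin 416)) where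
  toFun g := Equiv.Set.congr (g : Perm (Fin 416))
  map_one' := by ext s : 1; simp
  map_mul' a b := by ext s : 1; simp [Set.image_image]

theorem subHom_apply (g : ↥G0) (s : Set (Fin 416)) : subHom g s = (g : Perm (Fin 416)) '' s := rfl

theorem line_inv : ∀ (g : ↥G0) (m : Fin 1365), ∃ j, subHom g (lineSet m) = lineSet j := by
  refine exists_image subHom lineSet_inj
    (S := ((↑) : ↥G0 → Perm (Fin 416)) ⁻¹' {σ | ∃ g < 8, ∀ i : Fin 416, (σ i).val = sImg g i.val})
    Subgroup.closure_closure_coe_preimage ?_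
  rintro σ ⟨g, hg, h⟩ m
  obtain ⟨h', e⟩ := image_gen hg h m
  exact ⟨_, e⟩

/-- the action on the sets -/
noncomputable def lineHom : ↥G0 →* Perm (Fin 1365) := indHom subHom lineSet_inj line_inv

theorem lineHom_spec (g : ↥G0) (m : Fin 1365) :
    (g : Perm (Fin 416)) '' lineSet m = lineSet (lineHom g m) :=
  (subHom_apply g _).symm.trans (indHom_spec subHom lineSet_inj line_inv g m)

theorem lineHom_gen {g : ℕ} (hg : g < 8) {σ : ↥G0}
    (hσ : ∀ i : Fin 416, ((σ : Perm (Fin 416)) i).val = sImg g i.val) (m : Fin 1365) :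
    (lineHom σ m).val = lImg g m.val := by
  obtain ⟨h, e⟩ := image_gen hg hσ m
  rw [lineHom, indHom_eq subHom lineSet_inj line_inv (j := ⟨_, h⟩) e]

end CfsgLib.Spor.SuzRank3
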