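import Cfsg.Agent.Lib.Spor.SuzRank3.Table
import Cfsg.Agent.Lib.Spor.SuzRank3.GraphData

/-!
The graph on the 416 points, the 1365 sets of 96 points, and the tests on them.
-/

set_option autoImplicit false

namespace CfsgLib.Spor.SuzRank3

open CfsgLib.G2J2

/-- the adjacency of degree 100 -/
def adjB (i j : ℕ) : Bool := (entry 0 GD.adjM i).testBit j

/-- a neighbour in a place -/
def adjEl (i k : ℕ) : ℕ := fld 9 (entry 0 GD.adjE i) k

/-- membership in a set of 96 points -/
def lineB (m i : ℕ) : Bool := (entry 0 GD.lineM m).testBit i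

/-- a point of a set in a place -/
def lineEl (m k : ℕ) : ℕ := fld 9 (entry 0 GD.lineE m) k

/-- the image of a set under a generator -/
def lImg (g m : ℕ) : ℕ := fld 11 (GD.lineTab.getD g 0) m

/-- the label of a point under the 2-group -/
def lu (i : ℕ) : ℕ := fld 3 GD.labU i

/-- the label of a set under the stabiliser of the first -/
def ll (m : ℕ) : ℕ := fld 2 GD.labL m

/-- a forest on the numbers below `n` from numbered entries: each is a root or the image of an earlier one -/
def treeOK (n ng : ℕ) (act : ℕ → ℕ → ℕ) (roots : List ℕ) (ord par gen pos : ℕ) : Bool :=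
  allB n (fun k => if Nat.blt (fld 4 gen k) ng then
      Nat.blt (fld 11 par k) k && Nat.beq (act (fld 4 gen k) (fld 11 ord (fld 11 par k))) (fld 11 ord k)
    else roots.contains (fld 11 ord k)) &&
  allB n fun m => Nat.blt (fld 11 pos m) n && Nat.beq (fld 11 ord (fld 11 pos m)) m

theorem of_treeOK {n ng : ℕ} {act : ℕ → ℕ → ℕ} {roots : List ℕ} {ord par gen pos : ℕ}
    (h : treeOK n ng act roots ord par gen pos = true) (Q : ℕ → Prop) (hroot : ∀ r ∈ roots, Q r)
    (hstep : ∀ g < ng, ∀ x, Q x → Q (act g x)) : ∀ m < n, Q m := by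
  simp only [treeOK, Bool.and_eq_true] at h
  have key : ∀ k, k < n → Q (fld 11 ord k) := by
    intro k
    induction k using Nat.strong_induction_on with
    | _ k ih =>
      intro hk
      have h1 := of_allB h.1 k hk
      split_ifs at h1 with hg
      · rw [Nat.blt_eq] at hg
        simp only [Bool.and_eq_true, Nat.blt_eq] at h1
        rw [← Nat.eq_of_beq_eq_true h1.2]
        exact hstep _ hg _ (ih _ h1.1 (h1.1.trans hk))
      · exact hroot _ (List.contains_iff_mem.1 h1)
  intro m hm
  have h2 := of_allB h.2 m hm
  simp only [Bool.and_eq_true, Nat.blt_eq] at h2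
  exact Nat.eq_of_beq_eq_true h2.2 ▸ key _ h2.1

/-- the lists of neighbours are the masks, and are mapped to such by the generators -/
def adjFacts : Bool :=
  allB 416 (fun i => Nat.beq (maskOf 100 (adjEl i)) (entry 0 GD.adjM i) &&
    allB 100 fun k => Nat.blt (adjEl i k) 416) &&
  allB 8 fun g => allB 416 fun i =>
    Nat.beq (maskOf 100 fun k => sImg g (adjEl i k)) (entry 0 GD.adjM (sImg g i))

/-- the neighbours of the base point, and the common neighbours of it and a point not adjacent -/
def adjZFacts : Bool :=
  allB 416 (fun i => adjB Data.z0 i == Nat.beq (hl i) 2 &&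
    (!Nat.beq (hl i) 1 || Nat.beq (countB 416 fun k => adjB Data.z0 k && adjB i k) 20)) &&
  Nat.beq (countB 416 fun i => Nat.beq (hl i) 0) 1 && Nat.beq (countB 416 fun i => Nat.beq (hl i) 2) 100 &&
  Nat.beq (countB 416 fun i => Nat.beq (hl i) 1) 315

/-- the lists of points are the masks, and these increase -/
def lineFacts : Bool :=
  allB 1365 (fun m => Nat.beq (maskOf 96 (lineEl m)) (entry 0 GD.lineM m) &&
    allB 96 fun k => Nat.blt (lineEl m k) 416) &&
  allB 1364 fun m => Nat.blt (entry 0 GD.lineM m) (entry 0 GD.lineM (m + 1))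

/-- a generator permutes the sets as tabulated -/
def lineImgFacts (g : ℕ) : Bool :=
  allB 1365 fun m => Nat.blt (lImg g m) 1365 &&
    Nat.beq (maskOf 96 fun k => sImg g (lineEl m k)) (entry 0 GD.lineM (lImg g m))

/-- transitivity on the sets -/
def lineTransFacts : Bool :=
  treeOK 1365 8 lImg [GD.l0] GD.ordT GD.parT GD.genT GD.posT

/-- a word in the eight generators by codes -/
def gwl (w : List ℕ) : List ℕ := w.map fun g => cd (g + 1)

/-- the elements of the series -/
def pcEls : List (List ℕ) := GD.pcRows.map fun r => gwl r.1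

/-- a word in the elements of a list -/
def pwl (L : List (List ℕ)) (w : List ℕ) : List ℕ := (w.map fun k => L.getD k []).flatten

/-- each element normalises the group of the later ones and has its square there -/
def pcOK : List (List ℕ × List ℕ × List (List ℕ)) → Bool
  | [] => true
  | r :: rest =>
    let R := rest.map fun s => gwl s.1
    eqB (gwl r.1 ++ gwl r.1) (pwl R r.2.1) && Nat.beq r.2.2.length R.length &&
      allB R.length (fun k => eqB (gwl r.1 ++ R.getD k []) (pwl R (r.2.2.getD k []) ++ gwl r.1)) &&
      pcOK rest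

/-- the four generators lie in the series -/
def pcFacts : Bool :=
  pcOK GD.pcRows && GD.pcRows.all (fun r => r.1.all fun g => Nat.blt g 8) &&
    allB 4 fun g => eqB [cd (g + 1)] (pwl pcEls (GD.pcGens.getD g []))

/-- the orbits of the 2-group on the points -/
def orbUFacts : Bool :=
  allB 4 (fun g => allB 416 fun i => Nat.beq (lu (sImg g i)) (lu i)) &&
  allB GD.rootU.length (fun l => Nat.beq (lu (GD.rootU.getD l 0)) l) &&
  allB 416 (fun i => Nat.blt (lu i) GD.rootU.length) &&
  Nat.beq GD.rootU.length 5 && treeOK 416 4 sImg GD.rootU GD.ordU GD.parU GD.genU GD.posU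

/-- only one union of the orbits of the 2-group is possible -/
def selUFacts : Bool :=
  allB 32 (fun b => Nat.beq b GD.selU || !Nat.beq (countB 416 fun i => b.testBit (lu i)) 96 ||
    GD.badU.any fun q => Nat.beq q.1 b && Nat.blt q.2 416 && b.testBit (lu q.2) &&
      !Nat.beq (countB 416 fun i => b.testBit (lu i) && adjB q.2 i) 20) &&
  allB 416 fun i => GD.selU.testBit (lu i) == lineB GD.l0 i

/-- the orbits of the stabiliser of the first set -/
def orbLFacts : Bool :=
  GD.stabL.all (fun g => Nat.blt g 8 && Nat.beq (lImg g GD.l0) GD.l0 &&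
    allB 1365 fun m => Nat.beq (ll (lImg g m)) (ll m)) &&
  allB GD.rootL.length (fun l => Nat.beq (ll (GD.rootL.getD l 0)) l) &&
  allB 1365 (fun m => Nat.blt (ll m) GD.rootL.length) &&
  treeOK 1365 GD.stabL.length (fun k m => lImg (GD.stabL.getD k 0) m) GD.rootL GD.ordL GD.parL GD.genL GD.posL &&
  Nat.beq (ll GD.l0) 0 && Nat.beq GD.rootL.length 4 && Nat.blt GD.l0 1365 &&
  allB 16 fun b => b.testBit 0 || Nat.beq b 4 ||
    !Nat.beq (countB 1365 fun m => b.testBit (ll m)) 320

/-- the same position relative to a list of points -/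
def sameSig (done : List ℕ) (b i : ℕ) : Bool :=
  done.all fun d => (Nat.beq i d == Nat.beq b d) && (adjB d i == adjB d b)

/-- the bound on the automorphisms -/
def autOK : List ℕ → List (ℕ × ℕ) → Bool
  | done, [] => allB 416 fun i => allB i fun j => !sameSig done i j
  | done, (b, s) :: rest =>
    Nat.blt b 416 && Nat.ble (countB 416 fun i => sameSig done b i) s && autOK (done ++ [b]) rest

/-- the automorphism test -/
def autFacts : Bool :=
  autOK [] GD.autBase && Nat.ble (GD.autBase.map Prod.snd).prod 503193600

end CfsgLib.Spor.SuzRank3
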