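import Cfsg.Agent.Lib.Spor.SuzRank3.Graph416
import Cfsg.Agent.Lib.Spor.SuzRank3.ChkOrb

/-!
A 2-group and its orbits, and the orbits on the 1365 sets.
-/

set_option autoImplicit false
set_option maxRecDepth 10000

namespace CfsgLib.Spor.SuzRank3

open CfsgLib.G2J2 Equiv

/-- a generator, as an element of the group -/
theorem exists_gen0 (g : ℕ) (hg : g < 8) :
    ∃ σ : ↥G0, ∀ i : Fin 416, ((σ : Perm (Fin 416)) i).val = sImg g i.val := by
  obtain ⟨σ, hσ, h⟩ := exists_gen416 g hg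
  exact ⟨⟨σ, hσ⟩, h⟩

theorem cd_gen {g : ℕ} (hg : g < 8) (i : Fin 416) : fld 9 (cd (g + 1)) i.val = sImg g i.val := by
  have h := seed_ok
  simp only [seedOK, Bool.and_eq_true] at h
  exact Nat.eq_of_beq_eq_true (of_allB (of_allB h.2 g hg) i.val i.isLt)

theorem exists_gwl : ∀ w : List ℕ, w.all (fun g => Nat.blt g 8) = true → ∃ σ ∈ G0, RepL σ (gwl w)
  | [], _ => ⟨1, one_mem _, RepL.nil⟩
  | g :: w, h => by
    simp only [List.all_cons, Bool.and_eq_true, Nat.blt_eq] at h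
    obtain ⟨τ, hτ, hl⟩ := exists_gwl w h.2
    obtain ⟨σ, hσ, hs⟩ := exists_gen416 g h.1
    exact ⟨σ * τ, mul_mem hσ hτ, RepL.cons (fun i => by rw [hs, cd_gen h.1]) hl⟩

theorem exists_pwl (P : Subgroup (Perm (Fin 416))) {L : List (List ℕ)}
    (hL : ∀ l ∈ L, ∃ σ ∈ P, RepL σ l) (w : List ℕ) : ∃ σ ∈ P, RepL σ (pwl L w) :=
  exists_wl P hL w

theorem exists_pgroup : ∀ L : List (List ℕ × List ℕ × List (List ℕ)), pcOK L = true →
    L.all (fun r => r.1.all fun g => Nat.blt g 8) = true →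
    ∃ P : Subgroup (Perm (Fin 416)), P ≤ G0 ∧ IsPGroup 2 P ∧
      ∀ l ∈ L.map (fun r => gwl r.1), ∃ σ ∈ P, RepL σ l := by
  intro L
  induction L with
  | nil => exact fun _ _ => ⟨⊥, bot_le, IsPGroup.of_bot, fun l hl => absurd hl (by simp)⟩
  | cons r rest ih =>
    intro h hw
    simp only [pcOK, Bool.and_eq_true] at h
    obtain ⟨⟨⟨hsq, -⟩, hconj⟩, hrest⟩ := h
    simp only [List.all_cons, Bool.and_eq_true] at hw
    obtain ⟨P₁, hP₁, hp₁, hmem₁⟩ := ih hrest hw.2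
    set R := rest.map fun s => gwl s.1 with hR
    choose ρ hρ hρl using fun k : Fin R.length => hmem₁ R[k.val] (List.getElem_mem k.2)
    set P := Subgroup.closure (Set.range ρ)
    have hle₁ : P ≤ P₁ := (Subgroup.closure_le _).2 (by rintro _ ⟨k, rfl⟩; exact hρ k)
    have hp : IsPGroup 2 P := hp₁.to_le hle₁
    have hmem : ∀ l ∈ R, ∃ σ ∈ P, RepL σ l := by
      intro l hl
      obtain ⟨k, hk, rfl⟩ := List.mem_iff_getElem.1 hl
      exact ⟨ρ ⟨k, hk⟩, Subgroup.subset_closure ⟨_, rfl⟩, hρl ⟨k, hk⟩⟩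
    obtain ⟨u, hu, hul⟩ := exists_gwl r.1 hw.1
    have hsq' : u * u ∈ P := by
      obtain ⟨w, hw', hwl⟩ := exists_pwl P hmem r.2.1
      rw [eq_of_eqB (mul_mem hu hu) ((hle₁.trans hP₁) hw') (hul.append hul) hwl hsq]
      exact hw'
    have hnorm : ∀ x ∈ P, u * x * u⁻¹ ∈ P := by
      intro x hx
      induction hx using Subgroup.closure_induction with
      | mem y hy =>
        obtain ⟨k, rfl⟩ := hy
        obtain ⟨w, hw', hwl⟩ := exists_pwl P hmem (r.2.2.getD k.val [])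
        have e : u * ρ k = w * u := by
          refine eq_of_eqB (mul_mem hu (hP₁ (hρ k))) (mul_mem ((hle₁.trans hP₁) hw') hu)
            (hul.append (hρl k)) (hwl.append hul) ?_
          have h := of_allB hconj k.val k.2
          rwa [List.getD_eq_getElem R _ k.2] at h
        rw [e, mul_inv_cancel_right]; exact hw'
      | one => simp
      | mul a b _ _ ha hb => rw [show u * (a * b) * u⁻¹ = (u * a * u⁻¹) * (u * b * u⁻¹) by group]; exact mul_mem ha hb
      | inv a _ ha => rw [show u * a⁻¹ * u⁻¹ = (u * a * u⁻¹)⁻¹ by group]; exact inv_mem ha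
    have hu2 : IsPGroup 2 (Subgroup.zpowers u) := by
      obtain ⟨k, hk⟩ := hp ⟨u * u, hsq'⟩
      have hk' : u ^ (2 ^ (k + 1)) = 1 := by
        rw [pow_succ', pow_mul, pow_two]
        exact congrArg Subtype.val hk
      intro x
      obtain ⟨m, hm⟩ := Subgroup.mem_zpowers_iff.1 x.2
      exact ⟨k + 1, Subtype.ext (by
        rw [SubgroupClass.coe_pow, ← hm, ← zpow_natCast, ← zpow_mul, mul_comm, zpow_mul, zpow_natCast, hk',
          one_zpow]
        rfl)⟩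
    have hleN : Subgroup.zpowers u ≤ Subgroup.normalizer (P : Set (Perm (Fin 416))) := by
      rw [Subgroup.zpowers_le]
      exact Subgroup.mem_normalizer_fintype hnorm
    refine ⟨Subgroup.zpowers u ⊔ P, sup_le (Subgroup.zpowers_le.2 hu) (hle₁.trans hP₁),
      hu2.to_sup_of_normal_right' hp hleN, fun l hl => ?_⟩
    rw [List.map_cons, List.mem_cons] at hl
    rcases hl with rfl | hl
    · exact ⟨u, Subgroup.mem_sup_left (Subgroup.mem_zpowers u), hul⟩
    · obtain ⟨σ, hσ, hl⟩ := hmem l hl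
      exact ⟨σ, Subgroup.mem_sup_right hσ, hl⟩

/-- a 2-subgroup with the first four generators -/
theorem exists_U : ∃ P : Subgroup ↥G0, IsPGroup 2 P ∧
    ∀ g < 4, ∃ σ ∈ P, ∀ i : Fin 416, ((σ : Perm (Fin 416)) i).val = sImg g i.val := by
  have h := pc_ok
  simp only [pcFacts, Bool.and_eq_true] at h
  obtain ⟨⟨h1, h2⟩, h3⟩ := h
  obtain ⟨P, hP, hp, hmem⟩ := exists_pgroup _ h1 h2
  refine ⟨P.subgroupOf G0, hp.of_equiv (Subgroup.subgroupOfEquivOfLe hP).symm, fun g hg => ?_⟩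
  obtain ⟨σ, hσ, hσl⟩ := exists_gen416 g (by omega)
  obtain ⟨w, hw, hwl⟩ := exists_pwl P hmem (GD.pcGens.getD g [])
  have e : σ = w := eq_of_eqB hσ (hP hw) (l := [cd (g + 1)])
    (fun i => by rw [hσl]; exact (cd_gen (by omega) i).symm) hwl (of_allB h3 g hg)
  exact ⟨⟨σ, hσ⟩, Subgroup.mem_subgroupOf.2 (e ▸ hw), hσl⟩

/-- membership in an invariant set is constant on classes -/
theorem class_const {n ng : ℕ} {act : ℕ → ℕ → ℕ} {roots : List ℕ} {ord par gen pos : ℕ}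
    (h : treeOK n ng act roots ord par gen pos = true) (lab : ℕ → ℕ)
    (hlab : ∀ g < ng, ∀ m < n, lab (act g m) = lab m)
    (hroots : allB roots.length (fun l => Nat.beq (lab (roots.getD l 0)) l) = true)
    (hrlt : ∀ r ∈ roots, r < n)
    (S : Set (Fin n)) (hS : ∀ g < ng, ∀ x : Fin n, ∃ hy : act g x.val < n, ((⟨_, hy⟩ : Fin n) ∈ S ↔ x ∈ S)) :
    ∀ x y : Fin n, lab x.val = lab y.val → (x ∈ S ↔ y ∈ S) := by
  let P : ℕ → Prop := fun m => ∃ hm : m < n, (⟨m, hm⟩ : Fin n) ∈ S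
  have hQ : ∀ m < n, (m < n → (P m ↔ P (roots.getD (lab m) 0))) := by
    intro m hm
    have := of_treeOK h (fun m => m < n ∧ (P m ↔ P (roots.getD (lab m) 0))) ?_ ?_ m hm
    · exact fun _ => this.2
    · intro r hr
      refine ⟨hrlt r hr, ?_⟩
      obtain ⟨l, hl, rfl⟩ := List.mem_iff_getElem.1 hr
      have e := Nat.eq_of_beq_eq_true (of_allB hroots l hl)
      rw [List.getD_eq_getElem _ _ hl] at e
      rw [e, List.getD_eq_getElem _ _ hl]
    · rintro g hg x ⟨hxn, hx⟩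
      obtain ⟨h', e⟩ := hS g hg ⟨x, hxn⟩
      refine ⟨h', ?_⟩
      rw [hlab g hg x hxn, ← hx]
      exact ⟨fun ⟨_, q⟩ => ⟨hxn, e.1 q⟩, fun ⟨_, q⟩ => ⟨h', e.2 q⟩⟩
  intro x y e
  have hx := hQ x.val x.2 x.2
  have hy := hQ y.val y.2 y.2
  rw [e, ← hy] at hx
  exact ⟨fun q => (hx.1 ⟨x.2, q⟩).2, fun q => (hx.2 ⟨y.2, q⟩).2⟩

theorem card_fin_countB {n : ℕ} (p : ℕ → Bool) (P : Fin n → Prop) (h : ∀ i : Fin n, P i ↔ p i.val = true) :
    Nat.card {i : Fin n // P i} = countB n p := by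
  classical
  rw [Nat.card_eq_fintype_card, Fintype.card_subtype, countB_eq]
  refine (Finset.card_map Fin.valEmbedding).symm.trans (congrArg Finset.card ?_)
  ext k
  simp only [Finset.mem_map, Finset.mem_filter, Finset.mem_univ, true_and, Fin.valEmbedding_apply,
    Finset.mem_range]
  exact ⟨fun ⟨i, hi, e⟩ => e ▸ ⟨i.isLt, (h i).1 hi⟩, fun ⟨hn, hp⟩ => ⟨⟨k, hn⟩, (h ⟨k, hn⟩).2 hp, rfl⟩⟩

/-- an invariant set is a union of classes -/
theorem exists_mask {n k : ℕ} (lab : ℕ → ℕ) (hlt : ∀ x : Fin n, lab x.val < k) (S : Set (Fin n))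
    (hS : ∀ x y : Fin n, lab x.val = lab y.val → (x ∈ S ↔ y ∈ S)) :
    ∃ b < 2 ^ k, ∀ x : Fin n, x ∈ S ↔ b.testBit (lab x.val) = true := by
  obtain ⟨b, hb, h⟩ := exists_bits k fun l => ∃ x : Fin n, lab x.val = l ∧ x ∈ S
  refine ⟨b, hb, fun x => ?_⟩
  rw [h _ (hlt x)]
  exact ⟨fun hx => ⟨x, rfl, hx⟩, fun ⟨y, e, hy⟩ => (hS y x e).1 hy⟩

/-- the first set -/
def l₀ : Fin 1365 := ⟨GD.l0, by decide⟩

/-- the only possible set of 96 points invariant under the 2-group -/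
theorem select {S : Set (Fin 416)}
    (hinv : ∀ g < 4, ∀ σ ∈ G0, (∀ i : Fin 416, (σ i).val = sImg g i.val) → ∀ x, (σ x ∈ S ↔ x ∈ S))
    (hcard : S.ncard = 96) (hdeg : ∀ x ∈ S, Nat.card {k : Fin 416 // k ∈ S ∧ Adj x k} = 20) :
    S = lineSet l₀ := by
  have h := orbU_ok
  simp only [orbUFacts, Bool.and_eq_true] at h
  obtain ⟨⟨⟨⟨hlab, hroots⟩, hlt⟩, h5⟩, htree⟩ := h
  have hlt' : ∀ x : Fin 416, lu x.val < 5 := fun x => by
    have h := of_allB hlt x.val x.2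
    rw [Nat.blt_eq, Nat.eq_of_beq_eq_true h5] at h
    exact h
  obtain ⟨b, hb, hS⟩ := exists_mask lu hlt' S (class_const htree lu
    (fun g hg m hm => Nat.eq_of_beq_eq_true (of_allB (of_allB hlab g hg) m hm)) hroots (by decide) S fun g hg x => by
      obtain ⟨σ, hσ, hσl⟩ := exists_gen416 g (by omega)
      refine ⟨hσl x ▸ (σ x).isLt, ?_⟩
      rw [show (⟨sImg g x.val, _⟩ : Fin 416) = σ x from Fin.ext (hσl x).symm]
      exact hinv g hg σ hσ hσl x)
  have hs := selU_ok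
  simp only [selUFacts, Bool.and_eq_true] at hs
  have hb' := of_allB hs.1 b hb
  simp only [Bool.or_eq_true, Bool.not_eq_true', List.any_eq_true, Bool.and_eq_true, Nat.blt_eq] at hb'
  rcases hb' with (hb' | hb') | ⟨q, -, ⟨⟨⟨-, hq⟩, hqS⟩, hqn⟩⟩
  · ext x
    have := of_allB hs.2 x.val x.2
    rw [beq_iff_eq] at this
    rw [hS x, Nat.eq_of_beq_eq_true hb', this]
    rfl
  · rw [← Nat.card_coe_set_eq] at hcard
    have e := card_fin_countB (fun i => b.testBit (lu i)) (fun i : Fin 416 => i ∈ S) hS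
    rw [show countB 416 (fun i => b.testBit (lu i)) = 96 from e.symm.trans hcard] at hb'
    simp at hb'
  · have e := card_fin_countB (fun i => b.testBit (lu i) && adjB q.2 i)
      (fun i : Fin 416 => i ∈ S ∧ Adj ⟨q.2, hq⟩ i) fun i => by rw [Bool.and_eq_true, hS i]; rfl
    rw [hdeg _ ((hS ⟨q.2, hq⟩).2 hqS)] at e
    rw [← e] at hqn
    simp at hqn

/-- transitivity on the sets -/
theorem lineHom_trans (m : Fin 1365) : ∃ σ : ↥G0, lineHom σ l₀ = m := by
  obtain ⟨σ, hσ⟩ := of_treeOK lineTrans_ok (fun x => ∃ σ : ↥G0, (lineHom σ l₀).val = x)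
    (fun r hr => ⟨1, by rw [List.mem_singleton.1 hr, map_one]; rfl⟩)
    (fun g hg x ⟨σ, e⟩ => by
      obtain ⟨τ, hτ⟩ := exists_gen0 g hg
      refine ⟨τ * σ, ?_⟩
      rw [map_mul, Perm.mul_apply, lineHom_gen hg hτ, e])
    m.val m.2
  exact ⟨σ, Fin.ext hσ⟩

/-- the label of a set relative to the first -/
def lab₀ (m : Fin 1365) : ℕ := ll m.val

/-- an invariant set of 320 sets avoiding the first is one class -/
theorem select320 {T : Set (Fin 1365)} (hinv : ∀ σ : ↥G0, lineHom σ l₀ = l₀ → ∀ x, (lineHom σ x ∈ T ↔ x ∈ T))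
    (h0 : l₀ ∉ T) (hcard : T.ncard = 320) : ∀ m, m ∈ T ↔ lab₀ m = 2 := by
  have h := orbL_ok
  simp only [orbLFacts, Bool.and_eq_true, List.all_eq_true, Nat.blt_eq] at h
  obtain ⟨⟨⟨⟨⟨⟨⟨hgens, hroots⟩, hlt⟩, htree⟩, hl0⟩, h4⟩, -⟩, hcount⟩ := h
  have hlt' : ∀ x : Fin 1365, ll x.val < 4 := fun x => by
    have h := of_allB hlt x.val x.2
    rw [Nat.blt_eq, Nat.eq_of_beq_eq_true h4] at h
    exact h
  obtain ⟨b, hb, hT⟩ := exists_mask ll hlt' T (class_const htree ll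
    (fun g hg m hm => Nat.eq_of_beq_eq_true (of_allB (hgens _ (by
      rw [List.getD_eq_getElem _ _ hg]; exact List.getElem_mem hg)).2 m hm))
    hroots (by decide) T fun k hk x => by
      obtain ⟨⟨hg, hfix⟩, -⟩ := hgens (GD.stabL.getD k 0) (by
        rw [List.getD_eq_getElem _ _ hk]; exact List.getElem_mem hk)
      obtain ⟨σ, hσ⟩ := exists_gen0 _ hg
      have he := lineHom_gen hg hσ x
      refine ⟨he ▸ (lineHom σ x).isLt, ?_⟩
      rw [show (⟨lImg (GD.stabL.getD k 0) x.val, _⟩ : Fin 1365) = lineHom σ x from Fin.ext he.symm]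
      exact hinv σ (Fin.ext ((lineHom_gen hg hσ l₀).trans (Nat.eq_of_beq_eq_true hfix))) x)
  have hb' := of_allB hcount b hb
  simp only [Bool.or_eq_true, Bool.not_eq_true'] at hb'
  rcases hb' with (hb' | hb') | hb'
  · exact absurd ((hT l₀).2 (by rw [show ll l₀.val = 0 from Nat.eq_of_beq_eq_true hl0]; exact hb')) h0
  · intro m
    rw [hT m, Nat.eq_of_beq_eq_true hb', show (4 : ℕ) = 2 ^ 2 by norm_num, Nat.testBit_two_pow, decide_eq_true_iff]
    exact eq_comm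
  · rw [← Nat.card_coe_set_eq] at hcard
    have e := card_fin_countB (fun i => b.testBit (ll i)) (fun i : Fin 1365 => i ∈ T) hT
    rw [show countB 1365 (fun i => b.testBit (ll i)) = 320 from e.symm.trans hcard] at hb'
    simp at hb'

end CfsgLib.Spor.SuzRank3
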