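import Cfsg.Agent.Lib.Spor.SuzRank3.Tools

/-!
Local subgroups of the group of degree 416 and one-step extensions of p-subgroups.
-/

set_option autoImplicit false

namespace CfsgLib.Spor.SuzRank3

open CfsgLib.G2J2

/-- a proper p-subgroup is normalised by an element outside it -/
theorem exists_ext {G : Type*} [Group G] [Finite G] (p a : ℕ) [hp : Fact p.Prime] (H P : Subgroup G)
    (hP : P ≤ H) (hcard : Nat.card P = p ^ a) (hdvd : p ^ (a + 1) ∣ Nat.card H) :
    ∃ y ∈ H, y ∉ P ∧ y ^ p ∈ P ∧ (∀ q ∈ P, y * q * y⁻¹ ∈ P) ∧ y ^ (p ^ (a + 1)) = 1 ∧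
      (a = 1 → ∀ q ∈ P, y * q = q * y) := by
  have hc : Nat.card (P.subgroupOf H) = p ^ a := by
    rw [Nat.card_congr (Subgroup.subgroupOfEquivOfLe hP).toEquiv, hcard]
  obtain ⟨K, hK, hPK⟩ := Sylow.exists_subgroup_card_pow_succ hdvd hc
  set P' := (P.subgroupOf H).subgroupOf K
  have hc' : Nat.card P' = p ^ a := by rw [Nat.card_congr (Subgroup.subgroupOfEquivOfLe hPK).toEquiv, hc]
  have hidx : P'.index = p := by
    have h := P'.card_mul_index
    rw [hc', hK, pow_succ] at h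
    exact mul_left_cancel₀ (pow_ne_zero a hp.out.ne_zero) h
  haveI hn : P'.Normal := Subgroup.normal_of_index_eq_minFac_card (by
    rw [hidx, hK, Nat.pow_minFac (Nat.succ_ne_zero a), hp.out.minFac_eq])
  obtain ⟨y, hy⟩ : ∃ y : K, y ∉ P' := by
    by_contra h
    push Not at h
    have ht : P' = ⊤ := eq_top_iff.2 fun x _ => h x
    rw [ht, Subgroup.index_top] at hidx
    exact hp.out.one_lt.ne' hidx.symm
  have mem : ∀ z : K, z ∈ P' ↔ ((z : H) : G) ∈ P := fun z => Iff.rfl
  refine ⟨((y : H) : G), (y : H).2, fun h => hy ((mem y).2 h), ?_, fun q hq => ?_, ?_, fun ha q hq => ?_⟩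
  · have h : y ^ P'.index ∈ P' := Subgroup.pow_index_mem P' y
    rw [hidx, mem] at h
    simpa using h
  · have hqK : (⟨q, hP hq⟩ : H) ∈ K := hPK hq
    have h := hn.conj_mem ⟨⟨q, hP hq⟩, hqK⟩ ((mem _).2 hq) y
    simpa using (mem _).1 h
  · have h : y ^ Nat.card K = 1 := pow_card_eq_one'
    rw [hK] at h
    simpa using congrArg (fun z : K => ((z : H) : G)) h
  · subst ha
    have hqK : (⟨q, hP hq⟩ : H) ∈ K := hPK hq
    exact congrArg (fun z : K => ((z : H) : G)) (IsPGroup.commutative_of_card_eq_prime_sq hK y ⟨_, hqK⟩)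

/-- a subgroup of order 604800 after conjugation -/
theorem card_conj (g : Equiv.Perm (Fin 416)) (H : Subgroup (Equiv.Perm (Fin 416))) :
    Nat.card (H.map (MulAut.conj g).toMonoidHom) = Nat.card H :=
  (Nat.card_congr (H.equivMapOfInjective _ (MulAut.conj g).injective).toEquiv).symm

theorem mem_conj {g : Equiv.Perm (Fin 416)} {H : Subgroup (Equiv.Perm (Fin 416))} {σ : Equiv.Perm (Fin 416)} :
    σ ∈ H.map (MulAut.conj g).toMonoidHom ↔ g⁻¹ * σ * g ∈ H := by
  rw [Subgroup.mem_map_equiv, MulAut.conj_symm_apply]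

theorem conj_le {g : Equiv.Perm (Fin 416)} {H : Subgroup (Equiv.Perm (Fin 416))} (hg : g ∈ G0) (hH : H ≤ G0) :
    H.map (MulAut.conj g).toMonoidHom ≤ G0 := fun σ hσ => by
  have h := hH (mem_conj.1 hσ)
  have := mul_mem (mul_mem hg h) (inv_mem hg)
  rwa [show g * (g⁻¹ * σ * g) * g⁻¹ = σ by group] at this

/-- a subgroup contains three generators of a type -/
def Contains (k : ℕ) (H : Subgroup (Equiv.Perm (Fin 416))) : Prop := ∀ l ∈ gensOf k, ∃ σ ∈ H, RepL σ l

/-- a subgroup is a point stabiliser -/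
def IsStab (H : Subgroup (Equiv.Perm (Fin 416))) : Prop :=
  ∃ i : Fin 416, ∀ σ, σ ∈ H ↔ σ ∈ G0 ∧ σ i = i

theorem isStab_conj {g : Equiv.Perm (Fin 416)} {H : Subgroup (Equiv.Perm (Fin 416))} (hg : g ∈ G0)
    (h : IsStab (H.map (MulAut.conj g).toMonoidHom)) : IsStab H := by
  obtain ⟨i, hi⟩ := h
  refine ⟨g⁻¹ i, fun σ => ?_⟩
  have h := hi (g * σ * g⁻¹)
  rw [mem_conj, show g⁻¹ * (g * σ * g⁻¹) * g = σ by group] at h
  rw [h, Equiv.Perm.mul_apply, Equiv.Perm.mul_apply]
  refine and_congr ⟨fun h => ?_, fun h => mul_mem (mul_mem hg h) (inv_mem hg)⟩ ?_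
  · have := mul_mem (mul_mem (inv_mem hg) h) hg
    rwa [show g⁻¹ * (g * σ * g⁻¹) * g = σ by group] at this
  · constructor
    · intro e
      apply g.injective
      rw [e]; exact (g.apply_symm_apply i).symm
    · intro e
      rw [e]; exact g.apply_symm_apply i

theorem gensOf_rep (k : ℕ) : ∀ l ∈ gensOf k, ∃ σ ∈ G0, RepL σ l := by
  intro l hl
  simp only [gensOf, List.mem_cons, List.not_mem_nil, or_false] at hl
  obtain ⟨-, hs⟩ := small_facts
  rcases hl with rfl | rfl | rfl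
  · exact exists_pm (hs _ (by simp))
  · exact exists_pm (hs _ (by simp))
  · exact exists_pm (small_getD (fun p hp => hs p (by simp [hp])) _)

/-- the verdict on a group with the given generators -/
theorem out_sound {maxKind : ℕ} {gens : List (List ℕ)} {o : ℕ × ℕ × List (List ℕ) × ℕ}
    (h : outOK maxKind gens o = true) {H : Subgroup (Equiv.Perm (Fin 416))} (hH : H ≤ G0)
    (hcard : Nat.card H = 604800) (hgens : ∀ l ∈ gens, ∃ σ ∈ H, RepL σ l) :
    ∃ g ∈ G0, ∃ k, 1 ≤ k ∧ k ≤ maxKind ∧ Contains k (H.map (MulAut.conj g).toMonoidHom) := by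
  unfold outOK at h
  split at h
  · obtain ⟨σ, hσ, hl⟩ := exists_wl H hgens (o.2.2.1.getD 0 [])
    exact (no13 hcard hσ hl h).elim
  · rename_i h0
    simp only [Bool.and_eq_true, Nat.ble_eq, Nat.blt_eq] at h
    obtain ⟨⟨hk, hp⟩, h3⟩ := h
    obtain ⟨g, hg, hgr⟩ := exists_pm hp
    refine ⟨g, hg, o.1, Nat.one_le_iff_ne_zero.2 fun e => h0 (by rw [e]; rfl), hk, fun l hl => ?_⟩
    obtain ⟨τ, hτ, hτl⟩ := gensOf_rep o.1 l hl
    refine ⟨τ, mem_conj.2 ?_, hτl⟩
    simp only [gensOf, List.mem_cons, List.not_mem_nil, or_false] at hl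
    have key : ∀ j < 3, ∀ c, [cd Data.xI, cd Data.tI, yOf o.1].getD j 0 = c → l = [c] →
        g⁻¹ * τ * g ∈ H := by
      intro j hj c hc hlc
      subst hlc
      obtain ⟨w, hw, hwl⟩ := exists_wl H hgens (o.2.2.1.getD j [])
      have e := eq_of_eqB (mul_mem hg (hH hw)) (mul_mem hτ hg) (hgr.append hwl) (hτl.append hgr)
        (by rw [← hc]; exact of_allB h3 j hj)
      rw [mul_assoc, ← e, inv_mul_cancel_left]
      exact hw
    rcases hl with rfl | rfl | rfl
    · exact key 0 (by norm_num) _ rfl rfl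
    · exact key 1 (by norm_num) _ rfl rfl
    · exact key 2 (by norm_num) _ rfl rfl

/-- the verdicts cover all leaves -/
theorem match_sound {maxKind : ℕ} {gens : List (List ℕ)} :
    ∀ {L : List (List ℕ)} {os : List (ℕ × ℕ × List (List ℕ) × ℕ)}, matchOut maxKind gens L os = true →
      ∀ st ∈ L, ∃ o, outOK maxKind (gens ++ [st]) o = true
  | [], _, _, st, h => absurd h List.not_mem_nil
  | a :: L, [], h, _, _ => by simp [matchOut] at h
  | a :: L, o :: os, h, st, hst => by
    simp only [matchOut, Bool.and_eq_true] at h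
    rcases List.mem_cons.1 hst with rfl | hst
    exacts [⟨o, h.1⟩, match_sound h.2 st hst]

/-- a local subgroup from its tests -/
theorem exists_local {k : ℕ} {pgen : List ℕ} {words : List (List ℕ)} {elts : List ℕ} {par : List (ℕ × ℕ)}
    (h : localFacts k pgen words elts par = true) (hpg : ∀ p ∈ pgen, p < Data.size)
    (hel : ∀ p ∈ elts, p < Data.size) (hne : 0 < elts.length) :
    ∃ P : Subgroup (Equiv.Perm (Fin 416)), Nat.card P = elts.length ∧ P ≤ G0 ∧
      (∀ H : Subgroup (Equiv.Perm (Fin 416)), H ≤ G0 → Contains k H → P ≤ H) ∧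
      (∀ σ ∈ P, ∃ p ∈ elts, RepL σ [cd p]) ∧ (∀ p ∈ elts, ∃ σ ∈ P, RepL σ [cd p]) ∧
      (∀ p ∈ pgen, ∃ σ ∈ P, RepL σ [cd p]) := by
  classical
  simp only [localFacts, Bool.and_eq_true] at h
  obtain ⟨⟨⟨⟨⟨hw, hone⟩, -⟩, hpar⟩, hclo⟩, hnd⟩ := h
  choose gσ gmem grep using fun i : Fin pgen.length => exists_pm (hpg _ (List.getElem_mem i.2))
  choose eσ emem erep using fun j : Fin elts.length => exists_pm (hel _ (List.getElem_mem j.2))
  let P := Subgroup.closure (Set.range gσ)
  have hge : ∀ i : Fin pgen.length, pgen.getD i 0 = pgen[i.val] := fun i => List.getD_eq_getElem _ _ i.2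
  have hee : ∀ j : Fin elts.length, elts.getD j 0 = elts[j.val] := fun j => List.getD_eq_getElem _ _ j.2
  have e0 : eσ ⟨0, hne⟩ = 1 := eq_of_eqB (emem _) (one_mem _) (erep ⟨0, hne⟩) RepL.nil
    (by rw [← hee ⟨0, hne⟩]; exact hone)
  have hP0 : P ≤ G0 := (Subgroup.closure_le _).2 (by rintro _ ⟨i, rfl⟩; exact gmem i)
  have hEP : ∀ j : Fin elts.length, eσ j ∈ P := by
    intro ⟨j, hj⟩
    induction j using Nat.strong_induction_on with
    | _ j ih =>
      rcases Nat.eq_zero_or_pos j with rfl | hpos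
      · rw [e0]; exact one_mem _
      · have hj' := of_allB hpar j hj
        simp only [Bool.or_eq_true, Bool.and_eq_true, Nat.blt_eq] at hj'
        rcases hj' with hj' | ⟨⟨h1, h2⟩, h3⟩
        · exact absurd (Nat.eq_of_beq_eq_true hj') hpos.ne'
        · rw [eq_of_eqB (emem ⟨j, hj⟩) (mul_mem (emem ⟨_, h1.trans hj⟩) (gmem ⟨_, h2⟩)) (erep ⟨j, hj⟩)
            ((erep ⟨_, h1.trans hj⟩).append (grep ⟨_, h2⟩))
            (by rw [← hee ⟨j, hj⟩, ← hee ⟨_, h1.trans hj⟩, ← hge ⟨_, h2⟩]; exact h3)]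
          exact mul_mem (ih _ h1 (h1.trans hj)) (Subgroup.subset_closure ⟨_, rfl⟩)
  have hmul : ∀ (j : Fin elts.length) (i : Fin pgen.length), ∃ j', eσ j' = eσ j * gσ i := by
    intro j i
    have h := of_allB (of_allB hclo j j.2) i i.2
    simp only [List.any_eq_true] at h
    obtain ⟨p, hp, he⟩ := h
    obtain ⟨j', hj', rfl⟩ := List.mem_iff_getElem.1 hp
    exact ⟨⟨j', hj'⟩, eq_of_eqB (emem _) (mul_mem (emem _) (gmem _)) (erep _) ((erep _).append (grep _))
      (by rw [← hee j, ← hge i]; exact he)⟩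
  have hPE : ∀ σ ∈ P, ∃ j, eσ j = σ := by
    suffices h : ∀ σ ∈ P, ∀ j, ∃ j', eσ j' = eσ j * σ by
      intro σ hσ
      obtain ⟨j, hj⟩ := h σ hσ ⟨0, hne⟩
      exact ⟨j, by rw [hj, e0, one_mul]⟩
    intro σ hσ
    induction hσ using Subgroup.closure_induction with
    | mem y hy => obtain ⟨i, rfl⟩ := hy; exact fun j => hmul j i
    | one => exact fun j => ⟨j, (mul_one _).symm⟩
    | mul a b _ _ ha hb =>
      intro j
      obtain ⟨j', hj'⟩ := ha j
      obtain ⟨j'', hj''⟩ := hb j'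
      exact ⟨j'', by rw [hj'', hj', mul_assoc]⟩
    | inv a _ ha =>
      intro j
      choose f hf using ha
      have hinj : Function.Injective f := fun p q e => by
        have h : eσ p = eσ q := mul_right_cancel ((hf p).symm.trans ((congrArg eσ e).trans (hf q)))
        by_contra hne'
        rcases lt_trichotomy p.val q.val with hl | hl | hl
        · have := of_allB (of_allB hnd q q.2) p hl
          rw [Bool.not_eq_true', hee p, hee q, eqB_of_eq (h ▸ erep p) (erep q)] at this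
          exact Bool.noConfusion this
        · exact hne' (Fin.ext hl)
        · have := of_allB (of_allB hnd p p.2) q hl
          rw [Bool.not_eq_true', hee p, hee q, eqB_of_eq (h ▸ erep q) (erep p)] at this
          exact Bool.noConfusion this
      obtain ⟨j', hj'⟩ := (Finite.injective_iff_surjective.1 hinj) j
      exact ⟨j', by rw [← hj', hf, mul_assoc, mul_inv_cancel, mul_one]⟩
  have hinj : Function.Injective eσ := fun p q h => by
    by_contra hne'
    rcases lt_trichotomy p.val q.val with hl | hl | hl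
    · have := of_allB (of_allB hnd q q.2) p hl
      rw [Bool.not_eq_true', hee p, hee q, eqB_of_eq (h ▸ erep p) (erep q)] at this
      exact Bool.noConfusion this
    · exact hne' (Fin.ext hl)
    · have := of_allB (of_allB hnd p p.2) q hl
      rw [Bool.not_eq_true', hee p, hee q, eqB_of_eq (h ▸ erep q) (erep p)] at this
      exact Bool.noConfusion this
  refine ⟨P, ?_, hP0, ?_, fun σ hσ => ?_, fun p hp => ?_, fun p hp => ?_⟩
  · have hbij : Function.Bijective fun j => (⟨eσ j, hEP j⟩ : P) :=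
      ⟨fun a b e => hinj (congrArg Subtype.val e), fun σ => by
        obtain ⟨j, hj⟩ := hPE σ.1 σ.2; exact ⟨j, Subtype.ext hj⟩⟩
    rw [← Nat.card_congr (Equiv.ofBijective _ hbij), Nat.card_eq_fintype_card, Fintype.card_fin]
  · intro H hH hc
    refine (Subgroup.closure_le _).2 ?_
    rintro _ ⟨i, rfl⟩
    obtain ⟨τ, hτ, hτl⟩ := exists_wl H hc (words.getD i [])
    rw [eq_of_eqB (gmem i) (hH hτ) (grep i) hτl (by rw [← hge i]; exact of_allB hw i i.2)]
    exact hτ
  · obtain ⟨j, rfl⟩ := hPE σ hσ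
    exact ⟨_, List.getElem_mem j.2, erep j⟩
  · obtain ⟨j, hj, rfl⟩ := List.mem_iff_getElem.1 hp
    exact ⟨_, hEP ⟨j, hj⟩, erep ⟨j, hj⟩⟩
  · obtain ⟨j, hj, rfl⟩ := List.mem_iff_getElem.1 hp
    exact ⟨_, Subgroup.subset_closure ⟨⟨j, hj⟩, rfl⟩, grep ⟨j, hj⟩⟩

end CfsgLib.Spor.SuzRank3
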