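import Cfsg.Agent.Lib.Spor.SuzRank3.Forced
import Cfsg.Agent.Lib.Spor.Suz.Simple

/-!
Recognition of the Suzuki group as a group of rank 3 on 1782 points.
-/

set_option autoImplicit false
set_option maxRecDepth 10000

namespace CfsgLib.Spor.SuzRank3

open CfsgLib.G2J2 Equiv

theorem sameSig_of {K : Subgroup (Perm (Fin 416))} (hK : ∀ σ ∈ K, ∀ i j, Adj (σ i) (σ j) ↔ Adj i j)
    {done : List ℕ} (hd : ∀ d ∈ done, d < 416) (hfix : ∀ σ ∈ K, ∀ i : Fin 416, i.val ∈ done → σ i = i)
    {σ : Perm (Fin 416)} (hσ : σ ∈ K) (b : Fin 416) :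
    sameSig done b.val (σ b).val = true ∧ sameSig done (σ b).val b.val = true := by
  simp only [sameSig, List.all_eq_true, Bool.and_eq_true, beq_iff_eq]
  have key : ∀ d ∈ done, (Nat.beq (σ b).val d = Nat.beq b.val d) ∧ adjB d (σ b).val = adjB d b.val := by
    intro d hdd
    let i : Fin 416 := ⟨d, hd d hdd⟩
    have hi : σ i = i := hfix σ hσ i hdd
    refine ⟨Bool.eq_iff_iff.2 ?_, Bool.eq_iff_iff.2 ?_⟩
    · constructor
      · intro e
        have e' : σ b = i := Fin.ext (Nat.eq_of_beq_eq_true e)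
        rw [σ.injective (e'.trans hi.symm)]; exact Nat.beq_refl _
      · intro e
        have e' : b = i := Fin.ext (Nat.eq_of_beq_eq_true e)
        rw [e', hi]; exact Nat.beq_refl _
    · show Adj i (σ b) ↔ Adj i b
      conv_lhs => rw [← hi]
      exact hK σ hσ i b
  exact ⟨key, fun d hd => ⟨(key d hd).1.symm, (key d hd).2.symm⟩⟩

theorem aut_bound : ∀ (rest : List (ℕ × ℕ)) (done : List ℕ), autOK done rest = true → (∀ d ∈ done, d < 416) →
    ∀ K : Subgroup (Perm (Fin 416)), (∀ σ ∈ K, ∀ i j, Adj (σ i) (σ j) ↔ Adj i j) →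
      (∀ σ ∈ K, ∀ i : Fin 416, i.val ∈ done → σ i = i) → Nat.card K ≤ (rest.map Prod.snd).prod
  | [], done, h, hd, K, hK, hfix => by
    rw [List.map_nil, List.prod_nil]
    refine le_of_eq (Subgroup.card_eq_one.2 ((Subgroup.eq_bot_iff_forall K).2 fun σ hσ => Equiv.ext fun i => ?_))
    obtain ⟨h1, h2⟩ := sameSig_of hK hd hfix hσ i
    rcases lt_trichotomy (σ i).val i.val with hlt | heq | hlt
    · have := of_allB (of_allB h i.val i.2) _ hlt
      rw [h1] at this; simp at this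
    · exact Fin.ext heq
    · have := of_allB (of_allB h (σ i).val (σ i).2) _ hlt
      rw [h2] at this; simp at this
  | (b, s) :: rest, done, h, hd, K, hK, hfix => by
    simp only [autOK, Bool.and_eq_true, Nat.blt_eq, Nat.ble_eq] at h
    obtain ⟨⟨hb, hs⟩, hrest⟩ := h
    let i : Fin 416 := ⟨b, hb⟩
    have ih := aut_bound rest (done ++ [b]) hrest
      (fun x hx => by
        rcases List.mem_append.1 hx with hx | hx
        exacts [hd x hx, List.mem_singleton.1 hx ▸ hb])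
      (K ⊓ stab (MonoidHom.id _) i) (fun σ hσ => hK σ hσ.1) (fun σ hσ x hx => by
        rcases List.mem_append.1 hx with hx | hx
        · exact hfix σ hσ.1 x hx
        · rw [show x = i from Fin.ext (List.mem_singleton.1 hx)]; exact hσ.2)
    have hidx : (stab (MonoidHom.id (Perm (Fin 416))) i).relIndex K ≤ s := by
      rw [relIndex_stab]
      refine le_trans ?_ hs
      rw [← card_fin_countB (fun j => sameSig done b j) (fun j : Fin 416 => sameSig done b j.val = true)
        (fun j => Iff.rfl)]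
      refine Nat.card_le_card_of_injective (fun j => ⟨j.1, ?_⟩) fun x y e => Subtype.ext (congrArg (fun z => z.1) e)
      obtain ⟨σ, hσ, e⟩ := j.2
      rw [← e]
      exact (sameSig_of hK hd hfix hσ i).1
    have hmul := ((stab (MonoidHom.id (Perm (Fin 416))) i).subgroupOf K).card_mul_index
    rw [Nat.card_congr (Subgroup.subgroupOfEquivOfLe (inf_le_left : K ⊓ stab (MonoidHom.id _) i ≤ K)).toEquiv.symm] at ih
    rw [Subgroup.inf_subgroupOf_left] at ih
    rw [List.map_cons, List.prod_cons, ← hmul, mul_comm]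
    exact Nat.mul_le_mul hidx ih

theorem card_aut416 {K : Subgroup (Perm (Fin 416))} (hK : ∀ σ ∈ K, ∀ i j, Adj (σ i) (σ j) ↔ Adj i j) :
    Nat.card K ≤ 503193600 := by
  have h := aut_ok
  simp only [autFacts, Bool.and_eq_true, Nat.ble_eq] at h
  exact (aut_bound GD.autBase [] h.1 (fun d hd => absurd hd List.not_mem_nil) K hK
    (fun σ _ i hi => absurd hi List.not_mem_nil)).trans h.2

namespace Cfg

variable {Ω : Type*} (d : Cfg Ω)

/-- the relation on the labels -/
def R₀ : Option (Fin 416 ⊕ Fin 1365) → Option (Fin 416 ⊕ Fin 1365) → Prop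
  | none, some (Sum.inl _) => True
  | some (Sum.inl _), none => True
  | some (Sum.inl i), some (Sum.inl j) => Adj i j
  | some (Sum.inl i), some (Sum.inr m) => i ∈ lineSet m
  | some (Sum.inr m), some (Sum.inl i) => i ∈ lineSet m
  | some (Sum.inr m), some (Sum.inr l) => LRel m l
  | _, _ => False

/-- the point of a label -/
noncomputable def pointOf : Option (Fin 416 ⊕ Fin 1365) → Ω
  | none => d.a
  | some (Sum.inl i) => d.f i
  | some (Sum.inr m) => d.e m

theorem pointOf_bij : Function.Bijective d.pointOf := by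
  constructor
  · rintro (_ | i | m) (_ | j | l) h
    · rfl
    · exact absurd (h ▸ d.f_mem j : d.pointOf none ∈ d.B) d.a_notMem_B
    · exact absurd (h ▸ d.e_mem l : d.pointOf none ∈ d.C) d.a_notMem_C
    · exact absurd (h ▸ d.f_mem i : d.pointOf none ∈ d.B) d.a_notMem_B
    · rw [d.f_inj h]
    · exact absurd (h ▸ d.e_mem l : d.pointOf (some (Sum.inl i)) ∈ d.C) (d.not_C_of_B (d.f_mem i))
    · exact absurd (h ▸ d.e_mem m : d.pointOf none ∈ d.C) d.a_notMem_C
    · exact absurd (h.symm ▸ d.f_mem j : d.pointOf (some (Sum.inr m)) ∈ d.B)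
        (fun hB => d.not_C_of_B hB (d.e_mem m))
    · rw [d.e_inj h]
  · intro x
    rcases d.cover x with rfl | hB | hC
    · exact ⟨none, rfl⟩
    · obtain ⟨i, rfl⟩ := d.range_f.symm.subset hB; exact ⟨some (Sum.inl i), rfl⟩
    · obtain ⟨m, rfl⟩ := d.range_e.symm.subset hC; exact ⟨some (Sum.inr m), rfl⟩

theorem R_pointOf : ∀ u v, d.R (d.pointOf u) (d.pointOf v) ↔ R₀ u v := by
  have hR : ∀ x y, d.R x y ↔ d.R y x := fun x y => ⟨d.R_symm, d.R_symm⟩
  have hfe : ∀ i m, d.R (d.f i) (d.e m) ↔ i ∈ lineSet m := fun i m => by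
    rw [← d.NB_e m, hR]; rfl
  rintro (_ | i | m) (_ | j | l) <;> simp only [pointOf, R₀]
  · exact iff_false_intro (d.R_irrefl _)
  · exact iff_true_intro (d.R_a.2 (d.f_mem j))
  · exact iff_false_intro fun h => d.not_C_of_B (d.R_a.1 h) (d.e_mem l)
  · exact iff_true_intro (d.R_to_a.2 (d.f_mem i))
  · exact d.R_ff i j
  · exact hfe i l
  · exact iff_false_intro fun h => d.not_C_of_B (d.R_to_a.1 h) (d.e_mem m)
  · rw [hR]; exact hfe j m
  · exact d.R_ee m l

/-- the labelling -/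
noncomputable def labelling : Option (Fin 416 ⊕ Fin 1365) ≃ Ω := Equiv.ofBijective d.pointOf d.pointOf_bij

theorem R_labelling (u v) : d.R (d.labelling u) (d.labelling v) ↔ R₀ u v := d.R_pointOf u v

/-- the automorphisms of the graph -/
def Aut : Subgroup (Perm Ω) where
  carrier := {σ | ∀ x y, d.R (σ x) (σ y) ↔ d.R x y}
  one_mem' := fun x y => Iff.rfl
  mul_mem' := fun {s t} hs ht x y => (hs _ _).trans (ht x y)
  inv_mem' := fun {s} hs x y => by
    have := (hs (s⁻¹ x) (s⁻¹ y)).symm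
    rwa [app_inv, app_inv] at this

theorem grp_le : d.grp ≤ d.Aut := fun _ hg => d.R_smul hg

theorem card_aut_point : Nat.card ↥(d.Aut ⊓ stab (MonoidHom.id (Perm Ω)) d.a) ≤ 503193600 := by
  haveI := d.fin
  set A := d.Aut ⊓ stab (MonoidHom.id (Perm Ω)) d.a
  have hmap : ∀ (σ : ↥A) (i : Fin 416), ∃ j, (σ : Perm Ω) (d.f i) = d.f j := fun σ i => by
    have h := (σ.2.1 d.a (d.f i)).2 (d.R_a.2 (d.f_mem i))
    rw [show (σ : Perm Ω) d.a = d.a from σ.2.2, d.R_a] at h
    obtain ⟨j, hj⟩ := d.range_f.symm.subset h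
    exact ⟨j, hj.symm⟩
  let ρ : ↥A →* Perm (Fin 416) := indHom (A.subtype) d.f_inj hmap
  have hspec : ∀ (σ : ↥A) i, (σ : Perm Ω) (d.f i) = d.f (ρ σ i) := fun σ i => indHom_spec A.subtype d.f_inj hmap σ i
  have hinj : Function.Injective ρ := by
    intro σ τ h
    refine Subtype.ext (Equiv.ext fun x => ?_)
    have hB : ∀ i, (σ : Perm Ω) (d.f i) = (τ : Perm Ω) (d.f i) := fun i => by rw [hspec, hspec, h]
    rcases d.cover x with rfl | hb | hc
    · rw [show (σ : Perm Ω) d.a = d.a from σ.2.2, show (τ : Perm Ω) d.a = d.a from τ.2.2]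
    · obtain ⟨i, rfl⟩ := d.range_f.symm.subset hb; exact hB i
    · have hCC : ∀ ν : ↥A, (ν : Perm Ω) x ∈ d.C := fun ν => by
        rcases d.cover ((ν : Perm Ω) x) with e | e | e
        · exfalso
          have : x = d.a := (ν : Perm Ω).injective (e.trans (show (ν : Perm Ω) d.a = d.a from ν.2.2).symm)
          exact d.a_notMem_C (this ▸ hc)
        · exfalso
          rw [← d.R_a, ← show (ν : Perm Ω) d.a = d.a from ν.2.2, ν.2.1, d.R_a] at e
          exact d.not_C_of_B e hc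
        · exact e
      refine d.eq_of_NB (hCC σ) (hCC τ) (Set.ext fun i => ?_)
      obtain ⟨j, rfl⟩ := (ρ σ).surjective i
      show d.R _ _ ↔ d.R _ _
      rw [show d.R ((σ : Perm Ω) x) (d.f (ρ σ j)) ↔ d.R x (d.f j) by rw [← hspec σ j, σ.2.1],
        show d.R ((τ : Perm Ω) x) (d.f (ρ σ j)) ↔ d.R x (d.f j) by rw [h, ← hspec τ j, τ.2.1]]
  rw [Nat.card_congr (MonoidHom.ofInjective hinj).toEquiv]
  refine card_aut416 ?_
  rintro _ ⟨σ, rfl⟩ i j
  rw [← d.R_ff, ← hspec, ← hspec, σ.2.1, d.R_ff]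

theorem card_aut : Nat.card ↥d.Aut ≤ 1782 * 503193600 := by
  haveI := d.fin
  have h := ((stab (MonoidHom.id (Perm Ω)) d.a).subgroupOf d.Aut).card_mul_index
  rw [← h, ← Subgroup.inf_subgroupOf_left, Nat.card_congr (Subgroup.subgroupOfEquivOfLe inf_le_left).toEquiv,
    mul_comm]
  refine Nat.mul_le_mul ?_ d.card_aut_point
  rw [Subgroup.inf_subgroupOf_left]
  rw [show ((stab (MonoidHom.id (Perm Ω)) d.a).subgroupOf d.Aut).index = _ from relIndex_stab _ _ _,
    ← d.card_eq]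
  exact Nat.card_le_card_of_injective _ Subtype.val_injective

theorem card_grp : Nat.card ↥d.grp = 1782 * 251596800 := by
  haveI := d.fin
  have h := ((stab (MonoidHom.id (Perm Ω)) d.a).subgroupOf d.grp).card_mul_index
  have e : d.grp ⊓ stab (MonoidHom.id (Perm Ω)) d.a = d.H := Subgroup.ext fun g => (d.mem_H g).symm
  rw [← h, ← Subgroup.inf_subgroupOf_left, Nat.card_congr (Subgroup.subgroupOfEquivOfLe inf_le_left).toEquiv,
    e, d.card_H, mul_comm]
  congr 1
  rw [← e, Subgroup.inf_subgroupOf_left]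
  rw [show ((stab (MonoidHom.id (Perm Ω)) d.a).subgroupOf d.grp).index = _ from relIndex_stab _ _ _,
    ← d.card_eq]
  exact Nat.card_congr (Equiv.subtypeUnivEquiv d.trans)

/-- two groups with these data are isomorphic, if one of them is simple -/
theorem equiv_of_simple {Ω' : Type*} (d' : Cfg Ω') [IsSimpleGroup ↥d'.grp] : Nonempty (↥d.grp ≃* ↥d'.grp) := by
  haveI := d.fin
  haveI := d'.fin
  set φ : Ω ≃ Ω' := d.labelling.symm.trans d'.labelling
  have hR : ∀ x y, d'.R (φ x) (φ y) ↔ d.R x y := fun x y => by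
    obtain ⟨u, rfl⟩ := d.labelling.surjective x
    obtain ⟨v, rfl⟩ := d.labelling.surjective y
    simp only [φ, Equiv.trans_apply, Equiv.symm_apply_apply]
    rw [d'.R_labelling, d.R_labelling]
  set M := d.grp.map φ.permCongrHom.toMonoidHom with hM
  have hMA : M ≤ d'.Aut := by
    rintro _ ⟨σ, hσ, rfl⟩ x y
    obtain ⟨x, rfl⟩ := φ.surjective x
    obtain ⟨y, rfl⟩ := φ.surjective y
    show d'.R (φ.permCongr σ (φ x)) (φ.permCongr σ (φ y)) ↔ _
    rw [Equiv.permCongr_apply, Equiv.permCongr_apply, Equiv.symm_apply_apply, Equiv.symm_apply_apply,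
      hR, hR, d.R_smul hσ]
  have hcardM : Nat.card ↥M = 1782 * 251596800 := by
    rw [hM, Subgroup.card_map_of_injective φ.permCongrHom.injective, d.card_grp]
  have hrel : M.relIndex d'.Aut ≤ 2 := by
    have h := (M.subgroupOf d'.Aut).card_mul_index
    rw [Nat.card_congr (Subgroup.subgroupOfEquivOfLe hMA).toEquiv, hcardM] at h
    have h2 := d'.card_aut
    rw [← h] at h2
    show (M.subgroupOf d'.Aut).index ≤ 2
    omega
  have hne : M.relIndex d'.Aut ≠ 0 := Subgroup.index_ne_zero_of_finite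
  have h2 : (M.subgroupOf d'.grp).index ≤ 2 :=
    (Subgroup.relIndex_le_of_le_right d'.grp_le hne).trans hrel
  have hne' : (M.subgroupOf d'.grp).index ≠ 0 := Subgroup.index_ne_zero_of_finite
  have hnormal : (M.subgroupOf d'.grp).Normal := by
    rcases (show (M.subgroupOf d'.grp).index = 1 ∨ (M.subgroupOf d'.grp).index = 2 by omega) with h | h
    · rw [Subgroup.index_eq_one.1 h]; infer_instance
    · exact Subgroup.normal_of_index_eq_two h
  rcases hnormal.eq_bot_or_eq_top with hbot | htop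
  · exfalso
    rw [hbot, Subgroup.index_bot, d'.card_grp] at h2
    omega
  · have hle : d'.grp ≤ M := Subgroup.subgroupOf_eq_top.1 htop
    have e : d'.grp = M := Subgroup.eq_of_le_of_card_ge hle (by rw [hcardM, d'.card_grp])
    exact ⟨(d.grp.equivMapOfInjective _ φ.permCongrHom.injective).trans (MulEquiv.subgroupCongr e.symm)⟩

end Cfg

section

open Cfsg.Lie

/-- the group of type G2 over four elements as the group of degree 416 -/
theorem equiv_G0 {K : Type*} [Field K] [Fintype K] (hK : Fintype.card K = 4) :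
    Nonempty (↥(chevG2.group K) ≃* ↥G0) := by
  obtain ⟨_⟩ := exists_four hK
  exact ⟨(MonoidHom.ofInjective Suz.G2Four.setHom_injective).trans (MulEquiv.subgroupCongr (range_setHom K))⟩

theorem exists_model : ∃ d : Cfg (Fin Suz.Perm.data.n), d.grp = Suz.π.range := by
  obtain ⟨K, _, _, hK, ⟨eH⟩⟩ := Suz.G2Four.exists_equiv
  obtain ⟨e0⟩ := equiv_G0 hK
  have hn : Suz.Perm.data.n = 1782 := rfl
  have hstab : stab Suz.π Suz.i₀ = Suz.H := by
    haveI := Suz.finite
    refine (Subgroup.eq_of_le_of_card_ge (fun k hk => Suz.H_fix k hk) ?_).symm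
    have h1 := (stab Suz.π Suz.i₀).card_mul_index
    rw [index_stab, Nat.card_congr (Equiv.subtypeUnivEquiv Suz.transitive), Nat.card_fin, Suz.natCard] at h1
    rw [Suz.card_H]
    have hn' : Nat.card ↥(stab Suz.π Suz.i₀) * 1782 = 448345497600 := h1
    omega
  obtain ⟨h1, h2, h3, h4⟩ := Suz.sub1_ok
  obtain ⟨hb, eb⟩ := Suz.orbit_set Suz.Perm.sub1 h1 h2 h4
  obtain ⟨g1, g2, g3, g4⟩ := Suz.sub0_ok
  obtain ⟨hc, ec⟩ := Suz.orbit_set Suz.Perm.sub0 g1 g2 g4
  rw [h3] at eb
  rw [g3] at ec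
  refine ⟨{
    fin := inferInstance
    grp := Suz.π.range
    a := Suz.i₀
    b := ⟨_, hb⟩
    c := ⟨_, hc⟩
    card_eq := by rw [Nat.card_fin, hn]
    trans := fun x => by
      obtain ⟨g, hg⟩ := Suz.transitive x
      exact ⟨_, ⟨g, rfl⟩, hg⟩
    H := Suz.H.map Suz.π
    mem_H := fun g => by
      constructor
      · rintro ⟨k, hk, rfl⟩
        exact ⟨⟨k, rfl⟩, Suz.H_fix k hk⟩
      · rintro ⟨⟨k, rfl⟩, hk⟩
        exact ⟨k, hstab ▸ hk, rfl⟩
    ψ := ((Suz.H.equivMapOfInjective _ Suz.π_injective).symm.trans eH).trans e0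
    orb_b := ?_
    orb_c := ?_ }, rfl⟩
  · rw [← eb]; congr 1; ext x
    exact ⟨fun ⟨_, ⟨k, hk, rfl⟩, e⟩ => ⟨k, hk, e⟩, fun ⟨k, hk, e⟩ => ⟨_, ⟨k, hk, rfl⟩, e⟩⟩
  · rw [← ec]; congr 1; ext x
    exact ⟨fun ⟨_, ⟨k, hk, rfl⟩, e⟩ => ⟨k, hk, e⟩, fun ⟨k, hk, e⟩ => ⟨_, ⟨k, hk, rfl⟩, e⟩⟩

/-- the recognition theorem -/
theorem isoSuz_of_rank_three {Ω : Type*} [Fintype Ω] (hΩ : Fintype.card Ω = 1782)
    {G : Subgroup (Perm Ω)} [MulAction.IsPretransitive G Ω] {a : Ω} {K : Type} [Field K] [Fintype K]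
    (hK : Fintype.card K = 4) (e : MulAction.stabilizer G a ≃* chevG2.group K) {b c : Ω}
    (hb : (MulAction.orbit (MulAction.stabilizer G a) b).ncard = 416)
    (hc : (MulAction.orbit (MulAction.stabilizer G a) c).ncard = 1365) : Cfsg.Spor.IsoSuz G := by
  obtain ⟨e0⟩ := equiv_G0 hK
  have horb : ∀ p, {x | ∃ h ∈ (MulAction.stabilizer G a).map G.subtype, h p = x} =
      MulAction.orbit (MulAction.stabilizer G a) p := fun p => Set.ext fun x =>
    ⟨fun ⟨_, ⟨k, hk, rfl⟩, e⟩ => ⟨⟨k, hk⟩, e⟩, fun ⟨k, e⟩ => ⟨_, ⟨k.1, k.2, rfl⟩, e⟩⟩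
  let d : Cfg Ω :=
    { fin := inferInstance
      grp := G
      a := a
      b := b
      c := c
      card_eq := by rw [Nat.card_eq_fintype_card, hΩ]
      trans := fun x => by
        obtain ⟨g, hg⟩ := MulAction.exists_smul_eq G a x
        exact ⟨g.1, g.2, hg⟩
      H := (MulAction.stabilizer G a).map G.subtype
      mem_H := fun g => ⟨fun ⟨k, hk, e⟩ => e ▸ ⟨k.2, hk⟩, fun ⟨hg, h⟩ => ⟨⟨g, hg⟩, h, rfl⟩⟩
      ψ := ((MulAction.stabilizer G a).equivMapOfInjective _ G.subtype_injective).symm.trans (e.trans e0)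
      orb_b := by rw [horb]; exact hb
      orb_c := by rw [horb]; exact hc }
  obtain ⟨d', hd'⟩ := exists_model
  haveI := Suz.finite
  haveI : IsSimpleGroup Cfsg.Spor.Suz := Suz.isSuz.1
  let i : Cfsg.Spor.Suz ≃* ↥d'.grp := (MonoidHom.ofInjective Suz.π_injective).trans (MulEquiv.subgroupCongr hd'.symm)
  haveI : IsSimpleGroup ↥d'.grp := i.symm.isSimpleGroup
  obtain ⟨φ⟩ := d.equiv_of_simple d'
  exact ⟨φ.trans i.symm⟩

end

end CfsgLib.Spor.SuzRank3
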