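import Cfsg.Agent.Lib.Spor.SuzRank3.Basic

/-!
Chains of transversals for the group of degree 416, and a pruned search through the products of a chain.
-/

set_option autoImplicit false

namespace CfsgLib.Spor.SuzRank3

open CfsgLib.G2J2

/-- a level: a base point, choices (lists of codes), and tests to be made at this level -/
abbrev Lev := ℕ × List (List ℕ) × List (ℕ × ℕ)

/-- a list of numbers increases strictly -/
def incr : List ℕ → Bool
  | [] => true
  | [_] => true
  | a :: b :: l => Nat.blt a b && incr (b :: l)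

theorem pairwise_of_incr : ∀ {l : List ℕ}, incr l = true → l.Pairwise (· < ·)
  | [], _ => List.Pairwise.nil
  | [a], _ => List.pairwise_singleton _ a
  | a :: b :: l, h => by
    simp only [incr, Bool.and_eq_true, Nat.blt_eq] at h
    have hp := pairwise_of_incr h.2
    refine List.pairwise_cons.2 ⟨fun x hx => ?_, hp⟩
    rcases List.mem_cons.1 hx with rfl | hx
    · exact h.1
    · exact h.1.trans ((List.pairwise_cons.1 hp).1 x hx)

/-- the chain tests -/
def chainOK : List ℕ → List Lev → Bool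
  | _, [] => true
  | prev, L :: rest =>
    Nat.blt L.1 416 && L.2.1.all (fun u => prev.all fun a => Nat.beq (ev u a) a) &&
      incr (L.2.1.map fun u => ev u L.1) && chainOK (prev ++ [L.1]) rest

/-- all choices consist of codes from the group -/
def GoodLevs (levs : List Lev) : Prop := ∀ L ∈ levs, ∀ u ∈ L.2.1, ∀ c ∈ u, Good c

/-- the products of a chain -/
def Prods : List Lev → Set (Equiv.Perm (Fin 416))
  | [] => {1}
  | L :: rest => {σ | ∃ u ∈ L.2.1, ∃ a, RepL a u ∧ a ∈ G0 ∧ ∃ τ ∈ Prods rest, σ = a * τ}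

theorem prods_fix : ∀ {levs : List Lev} {prev : List ℕ}, chainOK prev levs = true →
    ∀ σ ∈ Prods levs, ∀ i : Fin 416, i.val ∈ prev → σ i = i
  | [], _, _, σ, hσ, i, _ => by rw [Set.mem_singleton_iff.1 hσ]; rfl
  | L :: rest, prev, h, σ, ⟨u, hu, a, ha, _, τ, hτ, e⟩, i, hi => by
    simp only [chainOK, Bool.and_eq_true, List.all_eq_true] at h
    obtain ⟨⟨⟨-, hfix⟩, -⟩, hrest⟩ := h
    rw [e, Equiv.Perm.mul_apply, prods_fix hrest τ hτ i (List.mem_append_left _ hi)]
    exact Fin.ext ((ha i).trans (Nat.eq_of_beq_eq_true (hfix u hu i.val hi)))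

theorem prods_le : ∀ {levs : List Lev}, ∀ σ ∈ Prods levs, σ ∈ G0
  | [], σ, hσ => by rw [Set.mem_singleton_iff.1 hσ]; exact one_mem _
  | _ :: _, σ, ⟨_, _, a, _, ha, τ, hτ, e⟩ => e ▸ mul_mem ha (prods_le τ hτ)

theorem prods_sep : ∀ {levs : List Lev} {prev : List ℕ}, chainOK prev levs = true →
    ∀ σ ∈ Prods levs, ∀ σ' ∈ Prods levs,
      (∀ i : Fin 416, i.val ∈ levs.map Prod.fst → σ i = σ' i) → σ = σ'
  | [], _, _, σ, hσ, σ', hσ', _ => by rw [Set.mem_singleton_iff.1 hσ, Set.mem_singleton_iff.1 hσ']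
  | L :: rest, prev, h, σ, ⟨u, hu, a, ha, _, τ, hτ, e⟩, σ', ⟨u', hu', a', ha', _, τ', hτ', e'⟩, hag => by
    simp only [chainOK, Bool.and_eq_true, Nat.blt_eq] at h
    obtain ⟨⟨⟨hb, -⟩, hinc⟩, hrest⟩ := h
    let b : Fin 416 := ⟨L.1, hb⟩
    have hb' : b.val ∈ prev ++ [L.1] := List.mem_append_right _ (List.mem_singleton.2 rfl)
    have h1 : σ b = σ' b := hag b (by simp [b])
    rw [e, e', Equiv.Perm.mul_apply, Equiv.Perm.mul_apply, prods_fix hrest τ hτ b hb',
      prods_fix hrest τ' hτ' b hb'] at h1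
    have huu : u = u' := by
      have hnd : (L.2.1.map fun u => ev u L.1).Nodup :=
        (pairwise_of_incr hinc).imp fun h => Nat.ne_of_lt h
      refine List.inj_on_of_nodup_map hnd hu hu' ?_
      rw [← ha b, ← ha' b, h1]
    subst huu
    have haa : a = a' := ha.unique ha'
    subst haa
    rw [e, e', prods_sep hrest τ hτ τ' hτ' fun i hi => a.injective ?_]
    have := hag i (by simp only [List.map_cons, List.mem_cons]; exact Or.inr hi)
    rwa [e, e', Equiv.Perm.mul_apply, Equiv.Perm.mul_apply] at this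

theorem ncard_prods : ∀ {levs : List Lev} {prev : List ℕ}, chainOK prev levs = true → GoodLevs levs →
    (levs.map fun L => L.2.1.length).prod ≤ (Prods levs).ncard
  | [], _, _, _ => by simp [Prods]
  | L :: rest, prev, h, hg => by
    have h0 := h
    simp only [chainOK, Bool.and_eq_true, Nat.blt_eq] at h
    obtain ⟨⟨⟨hb, -⟩, hinc⟩, hrest⟩ := h
    have ih := ncard_prods hrest fun M hM => hg M (List.mem_cons_of_mem _ hM)
    choose a ha0 ha using fun u : {u // u ∈ L.2.1} => exists_repL u.1 (hg L List.mem_cons_self u.1 u.2)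
    let b : Fin 416 := ⟨L.1, hb⟩
    have hb' : b.val ∈ prev ++ [L.1] := List.mem_append_right _ (List.mem_singleton.2 rfl)
    have hnd : (L.2.1.map fun u => ev u L.1).Nodup :=
      (pairwise_of_incr hinc).imp fun h => Nat.ne_of_lt h
    let f : {u // u ∈ L.2.1} × Prods rest → Prods (L :: rest) := fun p =>
      ⟨a p.1 * p.2.1, p.1.1, p.1.2, a p.1, ha p.1, ha0 p.1, p.2.1, p.2.2, rfl⟩
    have hf : Function.Injective f := by
      rintro ⟨u, τ⟩ ⟨u', τ'⟩ e
      have e' : a u * τ.1 = a u' * τ'.1 := congrArg Subtype.val e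
      have h1 := DFunLike.congr_fun e' b
      rw [Equiv.Perm.mul_apply, Equiv.Perm.mul_apply, prods_fix hrest _ τ.2 b hb',
        prods_fix hrest _ τ'.2 b hb'] at h1
      have huu : u = u' := Subtype.ext (List.inj_on_of_nodup_map hnd u.2 u'.2 (by
        rw [← ha u b, ← ha u' b, h1]))
      subst huu
      exact Prod.ext rfl (Subtype.ext (mul_left_cancel e'))
    have hc := Nat.card_le_card_of_injective f hf
    rw [Nat.card_prod, Nat.card_coe_set_eq, Nat.card_coe_set_eq] at hc
    have hlen : Nat.card {u // u ∈ L.2.1} = L.2.1.length := by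
      have hnd' : L.2.1.Nodup := hnd.of_map _
      rw [← List.toFinset_card_of_nodup hnd', ← Nat.card_eq_finsetCard]
      exact Nat.card_congr (Equiv.subtypeEquivRight fun u => List.mem_toFinset.symm)
    rw [List.map_cons, List.prod_cons]
    rw [hlen] at hc
    exact (Nat.mul_le_mul_left _ ih).trans hc

theorem prods_eq {levs : List Lev} (h : chainOK [] levs = true) (hg : GoodLevs levs)
    (hcard : (levs.map fun L => L.2.1.length).prod = 251596800) :
    ∀ σ, σ ∈ G0 → σ ∈ Prods levs := by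
  have hle : Prods levs ⊆ (G0 : Set (Equiv.Perm (Fin 416))) := prods_le
  have h1 := ncard_prods h hg
  have h2 : ((G0 : Set (Equiv.Perm (Fin 416)))).ncard = 251596800 := by
    rw [← Nat.card_coe_set_eq]; exact card_G0
  have e := Set.eq_of_subset_of_ncard_le hle (by omega)
  intro σ hσ
  rw [e]; exact hσ

/-- elements of the group agreeing on a base are equal -/
theorem eq_of_base {levs : List Lev} (h : chainOK [] levs = true) (hg : GoodLevs levs)
    (hcard : (levs.map fun L => L.2.1.length).prod = 251596800) {σ τ : Equiv.Perm (Fin 416)}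
    (hσ : σ ∈ G0) (hτ : τ ∈ G0) (hag : ∀ i : Fin 416, i.val ∈ levs.map Prod.fst → σ i = τ i) : σ = τ :=
  prods_sep h σ (prods_eq h hg hcard σ hσ) τ (prods_eq h hg hcard τ hτ) hag

/-- the test made when a choice has been appended -/
def stepOK (cs : List (ℕ × List ℕ)) (inv : ℕ) (b : ℕ) (chk : List (ℕ × ℕ)) (st : List ℕ) : Bool :=
  Nat.beq (fld 9 inv (ev st b)) (fld 9 inv b) && chk.all fun ka =>
    (cs.getD ka.1 (0, [])).2.any fun q =>
      Nat.beq (fld 9 q (ev st ka.2)) (ev st (fld 9 (cs.getD ka.1 (0, [])).1 ka.2))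

/-- the test made at the end -/
def leafOK (cs : List (ℕ × List ℕ)) (base : List ℕ) (st : List ℕ) : Bool :=
  cs.all fun hT => hT.2.any fun q => base.all fun a =>
    Nat.beq (fld 9 q (ev st a)) (ev st (fld 9 hT.1 a))

/-- the pruned search -/
def go (cs : List (ℕ × List ℕ)) (inv : ℕ) (base : List ℕ) : List Lev → List ℕ → List (List ℕ)
  | [], st => if leafOK cs base st then [st] else []
  | L :: rest, st => L.2.1.flatMap fun u =>
      if stepOK cs inv L.1 L.2.2 (st ++ u) then go cs inv base rest (st ++ u) else []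

/-- the tests refer to points already determined -/
def checksOK (cs : List (ℕ × List ℕ)) : List ℕ → List Lev → Bool
  | _, [] => true
  | prev, L :: rest =>
    L.2.2.all (fun ka => Nat.blt ka.1 cs.length && (prev ++ [L.1]).contains ka.2 &&
      (prev ++ [L.1]).contains (fld 9 (cs.getD ka.1 (0, [])).1 ka.2)) && checksOK cs (prev ++ [L.1]) rest

/-- what is assumed of the elements searched for -/
def Fits (cs : List (ℕ × List ℕ)) (inv : ℕ) (σ : Equiv.Perm (Fin 416)) : Prop :=
  (∀ i : Fin 416, fld 9 inv (σ i).val = fld 9 inv i.val) ∧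
    ∀ hT ∈ cs, ∃ q ∈ hT.2, ∀ i : Fin 416, ∀ j : Fin 416, fld 9 hT.1 i.val = j.val →
      fld 9 q (σ i).val = (σ j).val

theorem go_sound (cs : List (ℕ × List ℕ)) (inv : ℕ) (base : List ℕ)
    (hcs : ∀ hT ∈ cs, ∀ a ∈ base, fld 9 hT.1 a < 416) (hbase : ∀ a ∈ base, a < 416)
    (σ : Equiv.Perm (Fin 416)) (hσ : Fits cs inv σ) :
    ∀ (levs : List Lev) (prev : List ℕ), chainOK prev levs = true → checksOK cs prev levs = true →
      (∀ a ∈ prev, a < 416) →
      ∀ (st : List ℕ) (p τ : Equiv.Perm (Fin 416)), RepL p st → τ ∈ Prods levs → σ = p * τ →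
        ∃ l ∈ go cs inv base levs st, RepL σ l := by
  intro levs
  induction levs with
  | nil =>
    intro prev _ _ _ st p τ hp hτ e
    rw [Set.mem_singleton_iff.1 hτ, mul_one] at e
    subst e
    refine ⟨st, ?_, hp⟩
    have hl : leafOK cs base st = true := by
      simp only [leafOK, List.all_eq_true, List.any_eq_true]
      intro hT hhT
      obtain ⟨q, hq, hfit⟩ := hσ.2 hT hhT
      refine ⟨q, hq, fun a ha => ?_⟩
      have h := hfit ⟨a, hbase a ha⟩ ⟨_, hcs hT hhT a ha⟩ rfl
      rw [hp, hp ⟨fld 9 hT.1 a, _⟩] at h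
      rw [h]; exact Nat.beq_refl _
    simp [go, hl]
  | cons L rest ih =>
    rintro prev hch hck hprev st p τ hp ⟨u, hu, a, ha, -, τ', hτ', rfl⟩ e
    have hch0 := hch
    simp only [chainOK, Bool.and_eq_true, Nat.blt_eq] at hch
    obtain ⟨⟨⟨hb, -⟩, -⟩, hrest⟩ := hch
    simp only [checksOK, Bool.and_eq_true, List.all_eq_true, Nat.blt_eq] at hck
    obtain ⟨hck1, hck2⟩ := hck
    have hp' : RepL (p * a) (st ++ u) := hp.append ha
    have e' : σ = p * a * τ' := by rw [mul_assoc]; exact e
    have hprev' : ∀ x ∈ prev ++ [L.1], x < 416 := fun x hx => by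
      rcases List.mem_append.1 hx with hx | hx
      exacts [hprev x hx, List.mem_singleton.1 hx ▸ hb]
    have hknown : ∀ i : Fin 416, i.val ∈ prev ++ [L.1] → (σ i).val = ev (st ++ u) i.val := fun i hi => by
      rw [e', Equiv.Perm.mul_apply, prods_fix hrest τ' hτ' i hi, hp' i]
    have hstep : stepOK cs inv L.1 L.2.2 (st ++ u) = true := by
      simp only [stepOK, Bool.and_eq_true, List.all_eq_true, List.any_eq_true]
      refine ⟨?_, fun ka hka => ?_⟩
      · rw [← hknown ⟨L.1, hb⟩ (List.mem_append_right _ (List.mem_singleton.2 rfl)), hσ.1 ⟨L.1, hb⟩]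
        exact Nat.beq_refl _
      · obtain ⟨⟨hk, ha1⟩, ha2⟩ := hck1 ka hka
        rw [List.contains_iff_mem] at ha1 ha2
        have hmem : cs.getD ka.1 (0, []) ∈ cs := by
          rw [List.getD_eq_getElem _ _ hk]; exact List.getElem_mem hk
        obtain ⟨q, hq, hfit⟩ := hσ.2 _ hmem
        refine ⟨q, hq, ?_⟩
        have h := hfit ⟨ka.2, hprev' _ ha1⟩ ⟨_, hprev' _ ha2⟩ rfl
        rw [hknown _ ha1, hknown _ ha2] at h
        rw [h]; exact Nat.beq_refl _
    obtain ⟨l, hl, hrep⟩ := ih (prev ++ [L.1]) hrest hck2 hprev' (st ++ u) (p * a) τ' hp' hτ' e'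
    refine ⟨l, ?_, hrep⟩
    simp only [go, List.mem_flatMap]
    exact ⟨u, hu, by rw [if_pos hstep]; exact hl⟩

end CfsgLib.Spor.SuzRank3
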