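import Cfsg.Agent.Lib.Spor.SuzRank3.ChkRows0
import Cfsg.Agent.Lib.Spor.SuzRank3.ChkRows1
import Cfsg.Agent.Lib.Spor.SuzRank3.ChkRows2
import Cfsg.Agent.Lib.Spor.SuzRank3.ChkRows3

/-!
All coded permutations belong to the group of degree 416.
-/

set_option autoImplicit false

namespace CfsgLib.Spor.SuzRank3

open CfsgLib.G2J2

theorem good_cd {p : ℕ} (hp : p < Data.size) : Good (cd p) := by
  refine good_of_checks Data.tab Data.rows Data.size seed_ok (fun q h9 hq => ?_) p hp
  have hs : Data.size = 2723 := rfl
  rcases lt_or_ge q (9 + 679) with h | h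
  · have := of_allB rows0_ok (q - 9) (by omega); rwa [Nat.add_sub_cancel' h9] at this
  rcases lt_or_ge q 1367 with h' | h'
  · have := of_allB rows1_ok (q - 688) (by omega); rwa [Nat.add_sub_cancel' h] at this
  rcases lt_or_ge q 2046 with h'' | h''
  · have := of_allB rows2_ok (q - 1367) (by omega); rwa [Nat.add_sub_cancel' h'] at this
  have := of_allB rows3_ok (q - 2046) (by omega); rwa [Nat.add_sub_cancel' h''] at this

end CfsgLib.Spor.SuzRank3
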