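import Cfsg.Agent.Lib.Spor.SuzRank3.ChkNorm
import Cfsg.Agent.Lib.Spor.SuzRank3.Table

/-!
From the tests to statements about permutations of degree 416.
-/

set_option autoImplicit false

namespace CfsgLib.Spor.SuzRank3

open CfsgLib.G2J2

theorem goodLevs_of_small {raw : List (ℕ × List (List ℕ) × List (ℕ × ℕ))} (h : levSmall raw = true) :
    GoodLevs (levOf raw) := by
  intro L hL u hu c hc
  simp only [levSmall, List.all_eq_true, Nat.blt_eq] at h
  obtain ⟨R, hR, rfl⟩ := List.mem_map.1 hL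
  obtain ⟨u', hu', rfl⟩ := List.mem_map.1 hu
  obtain ⟨p, hp, rfl⟩ := List.mem_map.1 hc
  exact good_cd (h R hR u' hu' p hp)

theorem small_facts : (levSmall Data.levN = true ∧ levSmall Data.levC = true ∧ levSmall Data.levA = true ∧
    levSmall Data.levB = true ∧ levSmall Data.levD = true) ∧
    ∀ p ∈ [Data.xI, Data.tI, Data.jD] ++ Data.xPows ++ Data.yI ++ Data.jTgt ++ Data.pGenA ++ Data.pGenB ++
      Data.pGenD ++ Data.pEltA ++ Data.pEltB ++ Data.pEltD, p < Data.size := by
  have h := small_ok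
  simp only [dataSmall, Bool.and_eq_true, List.all_eq_true, Nat.blt_eq] at h
  exact ⟨⟨h.1.1.1.1.1, h.1.1.1.1.2, h.1.1.1.2, h.1.1.2, h.1.2⟩, h.2⟩

theorem getD_mem_or {α : Type*} {l : List α} {d : α} (i : ℕ) : l.getD i d = d ∨ l.getD i d ∈ l := by
  by_cases h : i < l.length
  · exact Or.inr (by rw [List.getD_eq_getElem _ _ h]; exact List.getElem_mem h)
  · exact Or.inl (List.getD_eq_default _ _ (not_lt.1 h))

/-- a list entry of the data is a code -/
theorem small_getD {l : List ℕ} (hl : ∀ p ∈ l, p < Data.size) (i : ℕ) : l.getD i 0 < Data.size := by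
  rcases getD_mem_or (l := l) (d := 0) i with h | h
  · rw [h]; decide
  · exact hl _ h

/-- the element with a given code -/
theorem exists_pm {p : ℕ} (hp : p < Data.size) : ∃ σ ∈ G0, RepL σ [cd p] := by
  obtain ⟨σ, hσ, h⟩ := good_cd hp
  exact ⟨σ, hσ, fun i => h i⟩

theorem chain_facts {raw : List (ℕ × List (List ℕ) × List (ℕ × ℕ))} {cs : List (ℕ × List ℕ)}
    (h : chainFacts raw cs = true) : chainOK [] (levOf raw) = true ∧
      checksOK (consOf cs) [] (levOf raw) = true ∧
      ((levOf raw).map fun L => L.2.1.length).prod = 251596800 ∧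
      (levOf raw).map Prod.fst = raw.map Prod.fst ∧
      (∀ hT ∈ consOf cs, ∀ a ∈ (levOf raw).map Prod.fst, fld 9 hT.1 a < 416) ∧
      ∀ a ∈ (levOf raw).map Prod.fst, a < 416 := by
  simp only [chainFacts, Bool.and_eq_true, List.all_eq_true, Nat.blt_eq] at h
  obtain ⟨⟨⟨h1, h2⟩, h3⟩, h4⟩ := h
  have e : (levOf raw).map Prod.fst = raw.map Prod.fst := by
    simp [levOf, List.map_map, Function.comp_def]
  refine ⟨h1, h2, ?_, e, fun hT hhT a ha => h4 hT hhT a (e ▸ ha), ?_⟩
  · rw [← Nat.eq_of_beq_eq_true h3]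
    simp [levOf, List.map_map, Function.comp_def]
  · suffices H : ∀ (levs : List Lev) (prev : List ℕ), chainOK prev levs = true →
        ∀ a ∈ levs.map Prod.fst, a < 416 from H _ _ h1
    intro levs
    induction levs with
    | nil => intro _ _ a ha; simp at ha
    | cons L rest ih =>
      intro prev hc a ha
      simp only [chainOK, Bool.and_eq_true, Nat.blt_eq] at hc
      rcases List.mem_cons.1 ha with rfl | ha
      exacts [hc.1.1.1, ih _ hc.2 a ha]

/-- elements agreeing on the base are equal -/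
theorem eq_of_eqB {σ τ : Equiv.Perm (Fin 416)} (hσ : σ ∈ G0) (hτ : τ ∈ G0) {l l' : List ℕ}
    (hl : RepL σ l) (hl' : RepL τ l') (h : eqB l l' = true) : σ = τ := by
  obtain ⟨h1, -, h3, h4, -, h6⟩ := chain_facts chainN_ok
  refine eq_of_base h1 (goodLevs_of_small small_facts.1.1) h3 hσ hτ fun i hi => Fin.ext ?_
  rw [h4] at hi
  simp only [eqB, List.all_eq_true] at h
  rw [hl i, hl' i]
  exact Nat.eq_of_beq_eq_true (h i.val hi)

theorem eqB_of_eq {σ : Equiv.Perm (Fin 416)} {l l' : List ℕ} (hl : RepL σ l) (hl' : RepL σ l') :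
    eqB l l' = true := by
  obtain ⟨-, -, -, h4, -, h6⟩ := chain_facts chainN_ok
  simp only [eqB, List.all_eq_true]
  intro a ha
  have ha' : a < 416 := h6 a (h4 ▸ ha)
  have h := (hl ⟨a, ha'⟩).symm.trans (hl' ⟨a, ha'⟩)
  simp only at h
  rw [h]; exact Nat.beq_refl _

theorem iter_rep {σ : Equiv.Perm (Fin 416)} {l : List ℕ} (hl : RepL σ l) :
    ∀ (n : ℕ) (i : Fin 416), ((σ ^ n) i).val = iter (ev l) n i.val
  | 0, i => rfl
  | n + 1, i => by
    rw [pow_succ', Equiv.Perm.mul_apply, hl, iter_rep hl n i]; rfl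

theorem pow_one_iff {σ : Equiv.Perm (Fin 416)} (hσ : σ ∈ G0) {l : List ℕ} (hl : RepL σ l) (n : ℕ) :
    powOne n l = true ↔ σ ^ n = 1 := by
  obtain ⟨h1, -, h3, h4, -, h6⟩ := chain_facts chainN_ok
  simp only [powOne, List.all_eq_true]
  constructor
  · intro h
    refine eq_of_base h1 (goodLevs_of_small small_facts.1.1) h3 (pow_mem hσ n) (one_mem _) fun i hi =>
      Fin.ext ?_
    rw [h4] at hi
    rw [iter_rep hl, Equiv.Perm.one_apply]
    exact Nat.eq_of_beq_eq_true (h i.val hi)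
  · intro h a ha
    have ha' : a < 416 := h6 a (h4 ▸ ha)
    have e := iter_rep hl n ⟨a, ha'⟩
    rw [h, Equiv.Perm.one_apply] at e
    simp only at e
    rw [← e]; exact Nat.beq_refl _

/-- a word in elements of a subgroup -/
theorem exists_wl (H : Subgroup (Equiv.Perm (Fin 416))) {gens : List (List ℕ)}
    (hg : ∀ l ∈ gens, ∃ σ ∈ H, RepL σ l) : ∀ w : List ℕ, ∃ σ ∈ H, RepL σ (wl gens w)
  | [] => ⟨1, one_mem _, RepL.nil⟩
  | k :: w => by
    obtain ⟨τ, hτ, hl⟩ := exists_wl H hg w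
    have hk : ∃ σ ∈ H, RepL σ (gens.getD k []) := by
      rcases getD_mem_or (l := gens) (d := []) k with h | h
      · rw [h]; exact ⟨1, one_mem _, RepL.nil⟩
      · exact hg _ h
    obtain ⟨σ, hσ, hk⟩ := hk
    exact ⟨σ * τ, mul_mem hσ hτ, hk.append hl⟩

/-- no subgroup of order 604800 has an element with a cycle of length thirteen -/
theorem no13 {H : Subgroup (Equiv.Perm (Fin 416))} (hcard : Nat.card H = 604800)
    {σ : Equiv.Perm (Fin 416)} (hσ : σ ∈ H) {l : List ℕ} (hl : RepL σ l) {pt : ℕ}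
    (h : has13 l pt = true) : False := by
  simp only [has13, Bool.and_eq_true, Nat.blt_eq, Bool.not_eq_true'] at h
  obtain ⟨⟨hpt, h13⟩, hne⟩ := h
  let i : Fin 416 := ⟨pt, hpt⟩
  have e13 : (σ ^ 13) i = i := Fin.ext (by rw [iter_rep hl]; exact Nat.eq_of_beq_eq_true h13)
  have e1 : σ i ≠ i := fun e => by
    have := (hl i).symm.trans (congrArg Fin.val e)
    rw [show ev l pt = pt from this, Nat.beq_refl] at hne
    exact Bool.noConfusion hne
  have hdvd : orderOf σ ∣ 604800 := by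
    rw [← hcard]
    have := orderOf_dvd_natCard (⟨σ, hσ⟩ : H)
    rwa [← Subgroup.orderOf_coe] at this
  have hnot : ¬ 13 ∣ orderOf σ := fun hd => by
    have := hd.trans hdvd
    omega
  have hco : Nat.Coprime 13 (orderOf σ) :=
    (Nat.prime_iff.2 (by decide : Nat.Prime 13).prime).coprime_iff_not_dvd.2 hnot
  obtain ⟨m, hm⟩ := exists_pow_eq_self_of_coprime (x := σ) hco
  refine e1 ?_
  rw [← hm]
  exact (Equiv.Perm.pow_apply_eq_self_of_apply_eq_self e13 m)

end CfsgLib.Spor.SuzRank3
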