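import Cfsg.Agent.Lib.Spor.SuzRank3.Classify

/-!
The subgroup of order seven, its normaliser, and the classification of the subgroups of order 604800.
-/

set_option autoImplicit false
set_option maxRecDepth 10000

namespace CfsgLib.Spor.SuzRank3

open CfsgLib.G2J2

theorem pow_of_powFacts {x : Equiv.Perm (Fin 416)} (hx : x ∈ G0) (hxl : RepL x [cd Data.xI]) :
    ∀ p ∈ Data.xPows, ∃ j, 1 ≤ j ∧ j ≤ 6 ∧ RepL (x ^ j) [cd p] := by
  intro p hp
  have hb := base_ok
  simp only [baseFacts, Bool.and_eq_true] at hb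
  obtain ⟨⟨⟨-, hpw⟩, hlen⟩, -⟩ := hb
  have hlen' : Data.xPows.length = 6 := Nat.eq_of_beq_eq_true hlen
  obtain ⟨j, hj, rfl⟩ := List.mem_iff_getElem.1 hp
  obtain ⟨τ, hτ, hτl⟩ := exists_pm (small_facts.2 (Data.xPows[j]) (by simp [List.getElem_mem hj]))
  have hrep : ∀ n, RepL (x ^ n) (List.replicate n (cd Data.xI)) := by
    intro n
    induction n with
    | zero => exact RepL.nil
    | succ n ih =>
      rw [pow_succ', List.replicate_succ]
      exact hxl.append ih
  have e := of_allB hpw j (hlen' ▸ hj)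
  rw [List.getD_eq_getElem _ _ hj] at e
  refine ⟨j + 1, by omega, by omega, ?_⟩
  rw [← eq_of_eqB hτ (pow_mem hx _) hτl (hrep (j + 1)) e]
  exact hτl

theorem exists_x : ∃ x ∈ G0, RepL x [cd Data.xI] ∧ orderOf x = 7 := by
  haveI : Fact (Nat.Prime 7) := ⟨by norm_num⟩
  obtain ⟨x, hx, hxl⟩ := exists_pm (small_facts.2 Data.xI (by simp))
  have hb := base_ok
  simp only [baseFacts, Bool.and_eq_true, Bool.not_eq_true'] at hb
  obtain ⟨⟨⟨⟨⟨⟨h7, h1⟩, -⟩, -⟩, -⟩, -⟩, -⟩ := hb
  refine ⟨x, hx, hxl, orderOf_eq_prime ((pow_one_iff hx hxl 7).1 h7) fun e => ?_⟩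
  rw [eqB_of_eq (e ▸ hxl) RepL.nil] at h1
  exact Bool.noConfusion h1

theorem exists_conj_seven {x : Equiv.Perm (Fin 416)} (hx : x ∈ G0) (hord : orderOf x = 7)
    {H : Subgroup (Equiv.Perm (Fin 416))} (hH : H ≤ G0) (hc : Nat.card H = 604800) :
    ∃ g ∈ G0, x ∈ H.map (MulAut.conj g).toMonoidHom := by
  haveI : Fact (Nat.Prime 7) := ⟨by norm_num⟩
  obtain ⟨h, hh⟩ := exists_prime_orderOf_dvd_card' (G := H) 7 (by rw [hc]; norm_num)
  have hsyl : ∀ z : G0, orderOf z = 7 →
      Nat.card (Subgroup.zpowers z) = 7 ^ (Nat.card G0).factorization 7 := by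
    intro z hz
    rw [Nat.card_zpowers, hz, card_G0, show (251596800 : ℕ) = 7 * 35942400 by norm_num,
      Nat.factorization_mul (by norm_num) (by norm_num), Finsupp.add_apply,
      Nat.Prime.factorization_self (by norm_num), Nat.factorization_eq_zero_of_not_dvd (by norm_num)]
    norm_num
  let h' : G0 := ⟨h.1, hH h.2⟩
  let x' : G0 := ⟨x, hx⟩
  have eh : orderOf h' = 7 := by rw [← hh, ← Subgroup.orderOf_coe, ← Subgroup.orderOf_coe h]
  have ex : orderOf x' = 7 := by rw [← Subgroup.orderOf_coe]; exact hord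
  obtain ⟨g, hg⟩ := MulAction.exists_smul_eq G0 (Sylow.ofCard _ (hsyl h' eh)) (Sylow.ofCard _ (hsyl x' ex))
  refine ⟨g.1, g.2, mem_conj.2 ?_⟩
  have hmem : x' ∈ ((Sylow.ofCard _ (hsyl x' ex) : Sylow 7 G0) : Subgroup G0) := Subgroup.mem_zpowers x'
  rw [← hg, Sylow.coe_subgroup_smul, Subgroup.mem_smul_pointwise_iff_exists] at hmem
  obtain ⟨z, hz, e⟩ := hmem
  obtain ⟨n, rfl⟩ := Subgroup.mem_zpowers_iff.1 hz
  have e' : g.1 * h.1 ^ n * g.1⁻¹ = x := by
    have := congrArg Subtype.val e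
    simpa [h', x'] using this
  rw [← e', show g.1⁻¹ * (g.1 * h.1 ^ n * g.1⁻¹) * g.1 = h.1 ^ n by group]
  exact zpow_mem h.2 n

theorem exists_conj_involution {x : Equiv.Perm (Fin 416)} (hx : x ∈ G0) (hxl : RepL x [cd Data.xI])
    (hord : orderOf x = 7)
    {H : Subgroup (Equiv.Perm (Fin 416))} (hH : H ≤ G0) (hc : Nat.card H = 604800) (hxH : x ∈ H) :
    ∃ g ∈ G0, x ∈ H.map (MulAut.conj g).toMonoidHom ∧
      ∃ t ∈ H.map (MulAut.conj g).toMonoidHom, RepL t [cd Data.tI] := by
  classical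
  haveI : Fact (Nat.Prime 7) := ⟨by norm_num⟩
  let xH : H := ⟨x, hxH⟩
  have exo : orderOf xH = 7 := by rw [← Subgroup.orderOf_coe]; exact hord
  have hfac : Nat.card (Subgroup.zpowers xH) = 7 ^ (Nat.card H).factorization 7 := by
    rw [Nat.card_zpowers, exo, hc, show (604800 : ℕ) = 7 * 86400 by norm_num,
      Nat.factorization_mul (by norm_num) (by norm_num), Finsupp.add_apply,
      Nat.Prime.factorization_self (by norm_num), Nat.factorization_eq_zero_of_not_dvd (by norm_num)]
    norm_num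
  set P : Sylow 7 H := Sylow.ofCard _ hfac
  set N : Subgroup H := Subgroup.normalizer ((Subgroup.zpowers xH : Subgroup H) : Set H)
  have hidx : Nat.card (Sylow 7 H) = N.index := P.card_eq_index_normalizer
  have hmod : N.index ≡ 1 [MOD 7] := hidx ▸ card_sylow_modEq_one 7 H
  set L := go (consOf Data.consN) Data.invN baseN (levOf Data.levN) []
  have hn := norm_ok
  simp only [normFacts, Bool.and_eq_true, Nat.ble_eq] at hn
  obtain ⟨hL, hmatch⟩ := hn
  have hfit : ∀ σ : N, ∃ st ∈ L, RepL ((σ : H) : Equiv.Perm (Fin 416)) st := by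
    intro σ
    have hσ : ((σ : H) : Equiv.Perm (Fin 416)) ∈ G0 := hH (σ : H).2
    obtain ⟨st, hst, hl⟩ := exists_leaf (inv := Data.invN) chainN_ok small_facts.1.1 hσ (by
      refine ⟨fun i => by simp [Data.invN, fld], ?_⟩
      intro hT hhT
      simp only [consOf, Data.consN, List.map_cons, List.map_nil, List.mem_singleton] at hhT
      subst hhT
      have hc' := (Subgroup.mem_set_normalizer_iff.1 σ.2 xH).1 (Subgroup.mem_zpowers _)
      obtain ⟨m, hm⟩ := (mem_powers_iff_mem_zpowers (x := xH)).2 hc'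
      have hm' : x ^ (m % 7) = (σ : H).1 * x * ((σ : H).1)⁻¹ := by
        have e := congrArg Subtype.val hm
        simp only [SubmonoidClass.coe_pow, Subgroup.coe_mul, InvMemClass.coe_inv, xH] at e
        rw [← e, ← hord]
        exact (pow_mod_orderOf x m)
      have h0 : m % 7 ≠ 0 := by
        intro h0
        rw [h0, pow_zero] at hm'
        have hx1 : x = 1 := by
          rw [← conj_eq_one_iff (a := (σ : H).1)]; exact hm'.symm
        rw [hx1, orderOf_one] at hord
        omega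
      obtain ⟨q, hq, hql⟩ : ∃ q ∈ Data.xPows, RepL (x ^ (m % 7)) [cd q] := by
        obtain ⟨k, hk⟩ : ∃ k, m % 7 = k + 1 := ⟨m % 7 - 1, by omega⟩
        have hb := base_ok
        simp only [baseFacts, Bool.and_eq_true] at hb
        obtain ⟨⟨⟨-, hpw⟩, hlen⟩, -⟩ := hb
        have hk' : k < Data.xPows.length := by rw [Nat.eq_of_beq_eq_true hlen]; omega
        obtain ⟨τ, hτ, hτl⟩ := exists_pm (small_facts.2 (Data.xPows[k]) (by simp [List.getElem_mem hk']))
        have hrep : ∀ n, RepL (x ^ n) (List.replicate n (cd Data.xI)) := by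
          intro n
          induction n with
          | zero => exact RepL.nil
          | succ n ih =>
            rw [pow_succ', List.replicate_succ]
            exact hxl.append ih
        have e := of_allB hpw k (by rw [← Nat.eq_of_beq_eq_true hlen]; exact hk')
        rw [List.getD_eq_getElem _ _ hk'] at e
        refine ⟨_, List.getElem_mem hk', ?_⟩
        rw [hk, ← eq_of_eqB hτ (pow_mem hx _) hτl (hrep _) e]
        exact hτl
      exact ⟨cd q, List.mem_map.2 ⟨q, hq, rfl⟩, fits_one hxl hql hm'.symm⟩)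
    refine ⟨st, ?_, hl⟩
    rw [(chain_facts chainN_ok).2.2.2.1] at hst
    exact hst
  choose lf hlf hlfr using hfit
  have hcardN : Nat.card N ≤ 126 := by
    refine le_trans (Nat.card_le_card_of_injective (β := {u // u ∈ L}) (fun σ => ⟨lf σ, hlf σ⟩)
      fun a b e => ?_) ?_
    · have e' : lf a = lf b := congrArg Subtype.val e
      exact Subtype.ext (Subtype.ext ((hlfr a).unique (e' ▸ hlfr b)))
    · rw [Nat.card_congr (Equiv.subtypeEquivRight fun u => List.mem_toFinset.symm), Nat.card_eq_finsetCard]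
      exact (List.toFinset_card_le L).trans hL
  have hdvd7 : 7 ∣ Nat.card N := by
    have hle : Subgroup.zpowers xH ≤ N := Subgroup.le_normalizer
    have := Subgroup.card_dvd_of_le hle
    rwa [Nat.card_zpowers, exo] at this
  have hmul : Nat.card N * N.index = 604800 := by rw [Subgroup.card_mul_index, hc]
  obtain ⟨d, hd⟩ := hdvd7
  have hd42 : Nat.card N = 42 := by
    have hd18 : d ≤ 18 := by omega
    rw [hd, mul_assoc] at hmul
    have hdi : d * N.index = 86400 := by omega
    unfold Nat.ModEq at hmod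
    rw [hd]
    interval_cases d <;> omega
  haveI : Fact (Nat.Prime 2) := ⟨Nat.prime_two⟩
  obtain ⟨r, hr⟩ := exists_prime_orderOf_dvd_card' (G := N) 2 (by rw [hd42]; norm_num)
  have hr1 : ((r : H) : Equiv.Perm (Fin 416)) ≠ 1 := by
    intro e
    rw [← Subgroup.orderOf_coe, ← Subgroup.orderOf_coe, e, orderOf_one] at hr
    omega
  have hr2 : ((r : H) : Equiv.Perm (Fin 416)) * (r : H).1 = 1 := by
    have h := pow_orderOf_eq_one r
    rw [hr, pow_two] at h
    exact congrArg (fun z : N => ((z : H) : Equiv.Perm (Fin 416))) h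
  have hrmem : lf r ∈ L.filter fun r => eqB (r ++ r) [] && !eqB r [] := by
    refine List.mem_filter.2 ⟨hlf r, ?_⟩
    simp only [Bool.and_eq_true, Bool.not_eq_true']
    refine ⟨eqB_of_eq ((hlfr r).append (hlfr r)) (hr2 ▸ RepL.nil), ?_⟩
    by_contra h
    exact hr1 (eq_of_eqB (hH (r : H).2) (one_mem _) (hlfr r) RepL.nil (Bool.not_eq_false _ ▸ h))
  have key : ∀ (l : List (List ℕ)) (gs : List ℕ), matchConj l gs = true → ∀ st ∈ l,
      ∃ g : ℕ, g < Data.size ∧ eqB (cd g :: st) [cd Data.tI, cd g] = true ∧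
        ∃ p ∈ Data.xPows, eqB [cd g, cd Data.xI] [cd p, cd g] = true := by
    intro l
    induction l with
    | nil => intro gs _ st h; exact absurd h List.not_mem_nil
    | cons a l ih =>
      intro gs hg st hst
      cases gs with
      | nil => simp [matchConj] at hg
      | cons b gs =>
        simp only [matchConj, Bool.and_eq_true, Nat.blt_eq, List.any_eq_true] at hg
        rcases List.mem_cons.1 hst with rfl | hst
        exacts [⟨b, hg.1.1.1, hg.1.1.2, hg.1.2⟩, ih gs hg.2 st hst]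
  obtain ⟨gi, hgi, hgt, p, hp, hgx⟩ := key _ _ hmatch _ hrmem
  obtain ⟨g, hg, hgl⟩ := exists_pm hgi
  obtain ⟨t, ht, htl⟩ := exists_pm (small_facts.2 Data.tI (by simp))
  obtain ⟨j, hj1, hj6, hjl⟩ := pow_of_powFacts hx hxl p hp
  have e1 : g * (r : H).1 = t * g :=
    eq_of_eqB (mul_mem hg (hH (r : H).2)) (mul_mem ht hg) (hgl.append (hlfr r)) (htl.append hgl) hgt
  have e2 : g * x = x ^ j * g :=
    eq_of_eqB (mul_mem hg hx) (mul_mem (pow_mem hx _) hg) (hgl.append hxl) (hjl.append hgl) hgx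
  refine ⟨g, hg, ?_, t, mem_conj.2 ?_, htl⟩
  · have hxj : x ^ j ∈ H.map (MulAut.conj g).toMonoidHom := by
      refine mem_conj.2 ?_
      rw [mul_assoc, ← e2, inv_mul_cancel_left]; exact hxH
    have hco : Nat.Coprime j (orderOf x) := by rw [hord]; interval_cases j <;> decide
    obtain ⟨m, hm⟩ := exists_pow_eq_self_of_coprime hco
    rw [← hm]; exact pow_mem hxj m
  · rw [mul_assoc, ← e1, inv_mul_cancel_left]; exact (r : H).2

theorem isStab_of_xt {x t : Equiv.Perm (Fin 416)} (hxl : RepL x [cd Data.xI]) (htl : RepL t [cd Data.tI])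
    {H : Subgroup (Equiv.Perm (Fin 416))} (hH : H ≤ G0) (hc : Nat.card H = 604800) (hxH : x ∈ H) (htH : t ∈ H) :
    IsStab H := by
  haveI : Fact (Nat.Prime 2) := ⟨Nat.prime_two⟩
  have hb := base_ok
  simp only [baseFacts, Bool.and_eq_true, Bool.not_eq_true'] at hb
  obtain ⟨⟨⟨⟨⟨-, ht2⟩, ht1⟩, -⟩, -⟩, -⟩ := hb
  have htG := hH htH
  have htne : t ≠ 1 := fun e => by
    rw [eqB_of_eq (e ▸ htl) RepL.nil] at ht1
    exact Bool.noConfusion ht1
  have hto : orderOf t = 2 := orderOf_eq_prime ((pow_one_iff htG htl 2).1 ht2) htne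
  obtain ⟨y, hy, hyP, hyp, -, -, hcomm⟩ := exists_ext 2 1 H (Subgroup.zpowers t)
    (Subgroup.zpowers_le.2 htH) (by rw [Nat.card_zpowers, hto]; norm_num) (by rw [hc]; norm_num)
  have hyt : y * t = t * y := hcomm rfl t (Subgroup.mem_zpowers t)
  obtain ⟨st, hst, hl⟩ := exists_leaf (inv := Data.invC) chainC_ok small_facts.1.2.1 (hH hy) (by
    refine ⟨fun i => by simp [Data.invC, fld], ?_⟩
    intro hT hhT
    simp only [consOf, Data.consC, List.map_cons, List.map_nil, List.mem_singleton] at hhT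
    subst hhT
    refine ⟨cd 715, List.mem_singleton.2 rfl, fits_one htl htl ?_⟩
    rw [hyt, mul_inv_cancel_right])
  have hkeep : keepC st = true := by
    simp only [keepC, Bool.and_eq_true, Bool.or_eq_true, Bool.not_eq_true']
    refine ⟨⟨?_, ?_⟩, ?_⟩
    · obtain ⟨m, hm⟩ := (mem_powers_iff_mem_zpowers (x := t)).2 hyp
      have hm' : t ^ (m % 2) = y * y := by
        rw [← pow_two, ← hm, ← hto]; exact pow_mod_orderOf t m
      rcases Nat.mod_two_eq_zero_or_one m with h | h <;> rw [h] at hm'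
      · rw [pow_zero] at hm'
        exact Or.inl (eqB_of_eq (hl.append hl) (hm' ▸ RepL.nil))
      · rw [pow_one] at hm'
        exact Or.inr (eqB_of_eq (hl.append hl) (hm' ▸ htl))
    · by_contra h
      exact hyP (eq_of_eqB (hH hy) (one_mem _) hl RepL.nil (Bool.not_eq_false _ ▸ h) ▸ one_mem _)
    · by_contra h
      exact hyP (eq_of_eqB (hH hy) htG hl htl (Bool.not_eq_false _ ▸ h) ▸ Subgroup.mem_zpowers t)
  obtain ⟨i, hi, hsti⟩ := cent_leaf hst
  obtain ⟨o, ho⟩ := match_sound (cent_ok hi) st (List.mem_filter.2 ⟨hsti, hkeep⟩)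
  obtain ⟨g, hg, k, hk1, hk4, hcon⟩ := out_sound ho hH hc fun l hl' => by
    simp only [List.cons_append, List.nil_append, List.mem_cons, List.not_mem_nil, or_false] at hl'
    rcases hl' with rfl | rfl | rfl
    exacts [⟨x, hxH, hxl⟩, ⟨t, htH, htl⟩, ⟨y, hy, hl⟩]
  refine isStab_conj hg ?_
  have hH' := conj_le hg hH
  have hc' : Nat.card (H.map (MulAut.conj g).toMonoidHom) = 604800 := by rw [card_conj, hc]
  interval_cases k
  exacts [stab_of_contains hH' hc' hcon, absurd hcon (no_two hH' hc'), absurd hcon (no_three hH' hc'),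
    stab_of_four hH' hc' hcon]

/-- every subgroup of order 604800 is a point stabiliser -/
theorem isStab_of_card {H : Subgroup (Equiv.Perm (Fin 416))} (hH : H ≤ G0) (hc : Nat.card H = 604800) :
    IsStab H := by
  obtain ⟨x, hx, hxl, hord⟩ := exists_x
  obtain ⟨g, hg, hxg⟩ := exists_conj_seven hx hord hH hc
  have hH' := conj_le hg hH
  have hc' : Nat.card (H.map (MulAut.conj g).toMonoidHom) = 604800 := by rw [card_conj, hc]
  obtain ⟨g', hg', hx', t, ht, htl⟩ := exists_conj_involution hx hxl hord hH' hc' hxg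
  exact isStab_conj hg (isStab_conj hg'
    (isStab_of_xt hxl htl (conj_le hg' hH') (by rw [card_conj, hc']) hx' ht))

end CfsgLib.Spor.SuzRank3
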